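import Mathlib
import Cfsg.Prelude.Def_Transfer
import Cfsg.Agent.Lib.PGroups.Basic
import Cfsg.Agent.Lib.PGroups.ClassTwo

/-!
Abelian subgroups of index `p`, and centre index of groups with commutator subgroup of order `p`.
-/

set_option autoImplicit false

open scoped commutatorElement

namespace CfsgLib.MetacyclicP

variable {S : Type*} [Group S] [Finite S] {p : ℕ} [hp : Fact p.Prime]

theorem normal_of_index_prime_pgroup (hS : IsPGroup p S) {A : Subgroup S}
    (hA : A.index = p) : A.Normal := by
  haveI : Group.IsNilpotent S := hS.isNilpotent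
  obtain ⟨M, hAM, hMn, hMi, -⟩ := CfsgLib.PGroups.exists_le_index_prime hS (H := A)
    (fun e => by rw [e, Subgroup.index_top] at hA; exact hp.out.ne_one hA.symm)
  have e : A = M := by
    refine Subgroup.eq_of_le_of_card_ge hAM ?_
    have h1 := A.card_mul_index
    have h2 := M.card_mul_index
    rw [hA] at h1; rw [hMi, ← h1] at h2
    exact (Nat.eq_of_mul_eq_mul_right hp.out.pos h2).le
  rwa [e]

theorem sup_zpowers_eq_top {A : Subgroup S} (hA : A.index = p) {s : S} (hs : s ∉ A) :
    A ⊔ Subgroup.zpowers s = ⊤ := by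
  have h : A ⊔ Subgroup.zpowers s ≠ A := fun e => hs (e ▸ Subgroup.mem_sup_right (Subgroup.mem_zpowers s))
  have h1 := Subgroup.relIndex_mul_index (le_sup_left : A ≤ A ⊔ Subgroup.zpowers s)
  rw [hA] at h1
  rcases (Nat.dvd_prime hp.out).1 (Dvd.intro_left _ h1) with h2 | h2
  · exact Subgroup.index_eq_one.1 h2
  · exfalso
    rw [h2, Nat.mul_eq_right hp.out.pos.ne', Subgroup.relIndex_eq_one] at h1
    exact h (le_antisymm h1 le_sup_left)

theorem center_le_of_abelian_index (hna : ¬ IsMulCommutative S) {A : Subgroup S}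
    (hA : IsMulCommutative A) (hAi : A.index = p) : Subgroup.center S ≤ A := by
  intro z hz
  by_contra hzA
  apply hna
  have hle : (⊤ : Subgroup S) ≤ Subgroup.centralizer (A : Set S) := by
    rw [← sup_zpowers_eq_top hAi hzA]
    refine sup_le (fun a ha b hb => congrArg Subtype.val (hA.is_comm.comm (⟨b, hb⟩ : A) ⟨a, ha⟩)) ?_
    rw [Subgroup.zpowers_le]
    exact fun b _ => Subgroup.mem_center_iff.1 hz b
  have hAZ : A ≤ Subgroup.center S := fun a ha =>
    Subgroup.mem_center_iff.2 fun g => (hle (Subgroup.mem_top g) a ha).symm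
  refine ⟨⟨fun u v => ?_⟩⟩
  have : (⊤ : Subgroup S) ≤ Subgroup.center S := by
    rw [← sup_zpowers_eq_top hAi hzA]
    exact sup_le hAZ (Subgroup.zpowers_le.2 hz)
  exact (Subgroup.mem_center_iff.1 (this (Subgroup.mem_top v)) u)

/-- The formula `[S : Z(S)] = p |S'|`. -/
theorem index_center_eq_of_abelian_index (hS : IsPGroup p S) (hna : ¬ IsMulCommutative S)
    {A : Subgroup S} (hA : IsMulCommutative A) (hAi : A.index = p) :
    (Subgroup.center S).index = p * Nat.card (commutator S) := by
  haveI hAn := normal_of_index_prime_pgroup hS hAi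
  obtain ⟨s, hs⟩ : ∃ s, s ∉ A := by
    by_contra h
    push Not at h
    rw [(Subgroup.eq_top_iff' A).2 h, Subgroup.index_top] at hAi
    exact hp.out.ne_one hAi.symm
  let θ : A →* S :=
    { toFun := fun a => ⁅(a : S), s⁆
      map_one' := by simp
      map_mul' := fun a b => by
        have hc : Commute (a : S) (s * (b : S)⁻¹ * s⁻¹) :=
          congrArg Subtype.val (hA.is_comm.comm a
            ⟨s * (b : S)⁻¹ * s⁻¹, hAn.conj_mem _ (A.inv_mem b.2) s⟩)
        have hc2 : Commute (b : S) (s * (a : S)⁻¹ * s⁻¹) :=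
          congrArg Subtype.val (hA.is_comm.comm b
            ⟨s * (a : S)⁻¹ * s⁻¹, hAn.conj_mem _ (A.inv_mem a.2) s⟩)
        simp only [commutatorElement_def, Subgroup.coe_mul]
        calc (a : S) * b * s * ((a : S) * b)⁻¹ * s⁻¹
            = (a : S) * ((b : S) * (s * (b : S)⁻¹ * s⁻¹)) * (s * (a : S)⁻¹ * s⁻¹) := by group
          _ = (a : S) * ((b : S) * (s * (a : S)⁻¹ * s⁻¹)) * (s * (b : S)⁻¹ * s⁻¹) := by
              rw [mul_assoc (a : S), mul_assoc (a : S)]
              congr 1
              have e := congrArg Subtype.val (hA.is_comm.comm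
                (⟨s * (b : S)⁻¹ * s⁻¹, hAn.conj_mem _ (A.inv_mem b.2) s⟩ : A)
                ⟨s * (a : S)⁻¹ * s⁻¹, hAn.conj_mem _ (A.inv_mem a.2) s⟩)
              simp only [Subgroup.coe_mul] at e
              rw [mul_assoc, e, ← mul_assoc]
          _ = (a : S) * (s * (a : S)⁻¹ * s⁻¹) * ((b : S) * (s * (b : S)⁻¹ * s⁻¹)) := by
              rw [hc2.eq]; group
          _ = (a : S) * s * (a : S)⁻¹ * s⁻¹ * ((b : S) * s * (b : S)⁻¹ * s⁻¹) := by group }
  have hIA : θ.range ≤ A := by
    rintro _ ⟨a, rfl⟩
    show ⁅(a : S), s⁆ ∈ A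
    rw [commutatorElement_def, show (a : S) * s * (a : S)⁻¹ * s⁻¹ = a * (s * (a : S)⁻¹ * s⁻¹) by group]
    exact A.mul_mem a.2 (hAn.conj_mem _ (A.inv_mem a.2) s)
  have hIn : θ.range.Normal := by
    rw [← Subgroup.normalizer_eq_top_iff, eq_top_iff, ← sup_zpowers_eq_top hAi hs]
    refine sup_le (fun b hb => ?_) (Subgroup.zpowers_le.2 ?_)
    · rw [Subgroup.mem_normalizer_iff]
      intro y
      constructor
      · intro hy
        have e := congrArg Subtype.val (hA.is_comm.comm (⟨b, hb⟩ : A) ⟨y, hIA hy⟩)
        simp only [Subgroup.coe_mul] at e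
        rw [e, mul_inv_cancel_right]; exact hy
      · intro hy
        have hb' : b⁻¹ * (b * y * b⁻¹) * b = b * y * b⁻¹ := by
          have e := congrArg Subtype.val (hA.is_comm.comm (⟨b⁻¹, A.inv_mem hb⟩ : A)
            ⟨b * y * b⁻¹, hIA hy⟩)
          simp only [Subgroup.coe_mul] at e
          rw [e, inv_mul_cancel_right]
        have hy' : y ∈ θ.range := by
          have e2 : b⁻¹ * (b * y * b⁻¹) * b = y := by group
          rw [e2] at hb'
          rwa [hb']
        exact hy'
    · rw [Subgroup.mem_normalizer_iff_map_conj_eq]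
      refine Subgroup.eq_of_le_of_card_ge ?_ ?_
      · rintro _ ⟨_, ⟨a, rfl⟩, rfl⟩
        exact ⟨⟨s * a * s⁻¹, hAn.conj_mem _ a.2 s⟩, by
          show ⁅s * (a : S) * s⁻¹, s⁆ = s * ⁅(a : S), s⁆ * s⁻¹
          simp only [commutatorElement_def]; group⟩
      · exact (Nat.card_congr (Subgroup.equivMapOfInjective θ.range _
          (MulAut.conj s).injective).toEquiv).le
  have hIcomm : commutator S = θ.range := by
    apply le_antisymm
    · rw [commutator_def, Subgroup.commutator_le]
      have key : (⊤ : Subgroup S) ≤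
          (Subgroup.centralizer
            ((Set.range (QuotientGroup.mk' θ.range) : Set (S ⧸ θ.range)))).comap
              (QuotientGroup.mk' θ.range) := by
        have hgen : ∀ y : S, (∀ a ∈ A, Commute (a : S ⧸ θ.range) (y : S ⧸ θ.range)) →
            Commute (s : S ⧸ θ.range) (y : S ⧸ θ.range) →
            ∀ z : S, Commute (z : S ⧸ θ.range) (y : S ⧸ θ.range) := by
          intro y h1 h2 z
          have hz : z ∈ (Subgroup.centralizer {(y : S ⧸ θ.range)}).comap
              (QuotientGroup.mk' θ.range) := by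
            have h3 : A ⊔ Subgroup.zpowers s ≤ (Subgroup.centralizer {(y : S ⧸ θ.range)}).comap
                (QuotientGroup.mk' θ.range) :=
              sup_le (fun a ha => Subgroup.mem_centralizer_singleton_iff.2 (h1 a ha))
                (Subgroup.zpowers_le.2 (Subgroup.mem_centralizer_singleton_iff.2 h2))
            exact h3 (sup_zpowers_eq_top hAi hs ▸ Subgroup.mem_top z)
          exact Subgroup.mem_centralizer_singleton_iff.1 hz
        have has : ∀ a ∈ A, Commute (a : S ⧸ θ.range) (s : S ⧸ θ.range) := by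
          intro a ha
          have h1 : ((⁅a, s⁆ : S) : S ⧸ θ.range) = 1 :=
            (QuotientGroup.eq_one_iff _).2 ⟨⟨a, ha⟩, rfl⟩
          exact commutatorElement_eq_one_iff_mul_comm.1
            (by rwa [← QuotientGroup.mk'_apply, map_commutatorElement] at h1)
        rw [← sup_zpowers_eq_top hAi hs]
        refine sup_le (fun b hb => ?_) (Subgroup.zpowers_le.2 ?_) <;> rintro _ ⟨z, rfl⟩
        · refine hgen b (fun a ha => ?_) (has b hb).symm z
          exact congrArg (fun u : A => ((u : S) : S ⧸ θ.range))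
            (hA.is_comm.comm ⟨a, ha⟩ ⟨b, hb⟩)
        · exact hgen s has (Commute.refl _) z
      intro x _ y _
      rw [← QuotientGroup.eq_one_iff, ← QuotientGroup.mk'_apply, map_commutatorElement,
        commutatorElement_eq_one_iff_mul_comm]
      exact (key (Subgroup.mem_top x) _ ⟨y, rfl⟩).symm
    · rintro _ ⟨a, rfl⟩
      exact Subgroup.commutator_mem_commutator (Subgroup.mem_top (a : S)) (Subgroup.mem_top s)
  have hker : θ.ker = (Subgroup.center S).subgroupOf A := by
    ext a
    rw [MonoidHom.mem_ker, Subgroup.mem_subgroupOf]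
    show ⁅(a : S), s⁆ = 1 ↔ _
    rw [commutatorElement_eq_one_iff_mul_comm]
    constructor
    · intro h
      refine Subgroup.mem_center_iff.2 fun g => ?_
      have : A ⊔ Subgroup.zpowers s ≤ Subgroup.centralizer ({(a : S)} : Set S) :=
        sup_le (fun b hb => Subgroup.mem_centralizer_singleton_iff.2
          (congrArg Subtype.val (hA.is_comm.comm (⟨b, hb⟩ : A) a)))
          (Subgroup.zpowers_le.2 (Subgroup.mem_centralizer_singleton_iff.2 h.symm))
      exact Subgroup.mem_centralizer_singleton_iff.1
        (this (sup_zpowers_eq_top hAi hs ▸ Subgroup.mem_top g))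
    · intro h
      exact (Subgroup.mem_center_iff.1 h s).symm
  have h1 := θ.ker.card_mul_index
  rw [Subgroup.index_ker, hker, ← hIcomm] at h1
  rw [Nat.card_congr (Subgroup.subgroupOfEquivOfLe (center_le_of_abelian_index hna hA hAi)).toEquiv]
    at h1
  have h2 := (Subgroup.center S).card_mul_index
  have h3 := A.card_mul_index
  rw [hAi, ← h1] at h3
  rw [← h3] at h2
  exact Nat.eq_of_mul_eq_mul_left Nat.card_pos (by rw [h2]; ring)

/-- Groups with commutator subgroup central of order dividing `p`: the centre has square index. -/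
theorem exists_index_center_eq (h : commutator S ≤ Subgroup.center S)
    (hc : Nat.card (commutator S) ∣ p) : ∃ n : ℕ, (Subgroup.center S).index = p ^ (2 * n) := by
  suffices ∀ H : Subgroup S, ∃ n : ℕ, (Subgroup.center H).index = p ^ (2 * n) by
    obtain ⟨n, hn⟩ := this ⊤
    refine ⟨n, ?_⟩
    rw [← hn]
    have e : (Subgroup.center S).comap (Subgroup.topEquiv : (⊤ : Subgroup S) ≃* S).toMonoidHom =
        Subgroup.center (⊤ : Subgroup S) := by
      ext x
      simp only [Subgroup.mem_comap, Subgroup.mem_center_iff]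
      exact ⟨fun h g => Subtype.ext (h g), fun h g => congrArg Subtype.val (h ⟨g, Subgroup.mem_top g⟩)⟩
    rw [← e, Subgroup.index_comap_of_surjective _ (Subgroup.topEquiv : (⊤ : Subgroup S) ≃* S).surjective]
  intro H
  induction H using WellFoundedLT.induction with
  | _ H ih =>
  by_cases hH : ∀ x y : H, x * y = y * x
  · refine ⟨0, ?_⟩
    rw [Nat.mul_zero, pow_zero, Subgroup.index_eq_one, eq_top_iff]
    exact fun x _ => Subgroup.mem_center_iff.2 fun g => hH g x
  push Not at hH
  obtain ⟨x, y, hxy⟩ := hH
  have hcard : Nat.card (commutator S) = p := by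
    rcases (Nat.dvd_prime hp.out).1 hc with e | e
    · exfalso
      apply hxy
      have : ⁅(x : S), (y : S)⁆ ∈ commutator S :=
        Subgroup.commutator_mem_commutator (Subgroup.mem_top _) (Subgroup.mem_top _)
      rw [Subgroup.card_eq_one.1 e, Subgroup.mem_bot, commutatorElement_eq_one_iff_mul_comm] at this
      exact Subtype.ext this
    · exact e
  have hz : ∀ a b : S, ⁅a, b⁆ ∈ Subgroup.center S := fun a b =>
    h (Subgroup.commutator_mem_commutator (Subgroup.mem_top _) (Subgroup.mem_top _))
  let φ : H →* commutator S × commutator S :=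
    { toFun := fun g => (⟨⁅(g : S), (x : S)⁆, Subgroup.commutator_mem_commutator
        (Subgroup.mem_top _) (Subgroup.mem_top _)⟩, ⟨⁅(g : S), (y : S)⁆,
        Subgroup.commutator_mem_commutator (Subgroup.mem_top _) (Subgroup.mem_top _)⟩)
      map_one' := by ext <;> simp
      map_mul' := fun a b => by
        ext
        · exact CfsgLib.PGroups.commutatorElement_mul_left (hz _ _)
        · exact CfsgLib.PGroups.commutatorElement_mul_left (hz _ _) }
  set C := φ.ker with hC
  have hne : ∀ a b : H, a * b ≠ b * a →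
      (⟨⁅(a : S), (b : S)⁆, Subgroup.commutator_mem_commutator
        (Subgroup.mem_top _) (Subgroup.mem_top _)⟩ : commutator S) ≠ 1 := by
    intro a b hab e
    exact hab (Subtype.ext (commutatorElement_eq_one_iff_mul_comm.1 (congrArg Subtype.val e)))
  have hself : ∀ a : H, (⟨⁅(a : S), (a : S)⁆, Subgroup.commutator_mem_commutator
      (Subgroup.mem_top _) (Subgroup.mem_top _)⟩ : commutator S) = 1 :=
    fun a => Subtype.ext (commutatorElement_self _)
  have hrange : (Subgroup.closure {x, y} : Subgroup H).map φ = ⊤ := by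
    rw [eq_top_iff]
    rintro ⟨u, v⟩ -
    obtain ⟨i, hi⟩ : u ∈ Subgroup.zpowers (φ y).1 := by
      rw [zpowers_eq_top_of_prime_card hcard (g := (φ y).1) (hne y x (Ne.symm hxy))]
      exact Subgroup.mem_top _
    obtain ⟨j, hj⟩ : v ∈ Subgroup.zpowers (φ x).2 := by
      rw [zpowers_eq_top_of_prime_card hcard (g := (φ x).2) (hne x y hxy)]
      exact Subgroup.mem_top _
    refine ⟨y ^ i * x ^ j, Subgroup.mul_mem _
      (Subgroup.zpow_mem _ (Subgroup.subset_closure (by simp)) i)
      (Subgroup.zpow_mem _ (Subgroup.subset_closure (by simp)) j), ?_⟩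
    rw [map_mul, map_zpow, map_zpow]
    refine Prod.ext ?_ ?_
    · have e : (φ x).1 = 1 := hself x
      simp only [Prod.fst_mul, Prod.pow_fst, e, one_zpow, mul_one]
      exact hi
    · have e : (φ y).2 = 1 := hself y
      simp only [Prod.snd_mul, Prod.pow_snd, e, one_zpow, one_mul]
      exact hj
  have hsurj : φ.range = ⊤ := by
    rw [eq_top_iff, ← hrange]
    exact Subgroup.map_le_range _ _
  have hindex : C.index = p * p := by
    rw [hC, Subgroup.index_ker, hsurj, Subgroup.card_top, Nat.card_prod, hcard]
  have hlt : C.map H.subtype < H := by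
    refine lt_of_le_of_ne (Subgroup.map_subtype_le C) fun e => ?_
    have h1 := C.card_mul_index
    rw [hindex, ← Subgroup.card_subtype, e] at h1
    have h2 := hp.out.two_le
    have h3 : p * p = 1 := (Nat.mul_eq_left Nat.card_pos.ne').1 h1
    nlinarith
  obtain ⟨n, hn⟩ := ih _ hlt
  refine ⟨n + 1, ?_⟩
  let e : C ≃* C.map H.subtype := C.equivMapOfInjective H.subtype H.subtype_injective
  have hn' : (Subgroup.center C).index = p ^ (2 * n) := by
    rw [← hn]
    have he : (Subgroup.center (C.map H.subtype)).comap e.toMonoidHom = Subgroup.center C := by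
      ext c
      simp only [Subgroup.mem_comap, Subgroup.mem_center_iff]
      constructor
      · intro h1 g
        exact e.injective (by rw [map_mul, map_mul]; exact h1 (e g))
      · intro h1 g
        obtain ⟨g', rfl⟩ := e.surjective g
        show e g' * e c = e c * e g'
        rw [← map_mul, ← map_mul, h1]
    rw [← he, Subgroup.index_comap_of_surjective _ e.surjective]
  have hZ : (Subgroup.center C).map C.subtype = Subgroup.center H := by
    apply le_antisymm
    · rintro _ ⟨c, hc', rfl⟩
      refine Subgroup.mem_center_iff.2 fun g => ?_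
      have hcx : (c : H) * x = x * c := Subtype.ext
        (commutatorElement_eq_one_iff_mul_comm.1 (congrArg (fun u => ((Prod.fst u : commutator S) : S)) c.2))
      have hcy : (c : H) * y = y * c := Subtype.ext
        (commutatorElement_eq_one_iff_mul_comm.1 (congrArg (fun u => ((Prod.snd u : commutator S) : S)) c.2))
      have hle : C ⊔ Subgroup.closure {x, y} ≤ Subgroup.centralizer ({(c : H)} : Set H) := by
        refine sup_le (fun d hd => Subgroup.mem_centralizer_singleton_iff.2
          (congrArg Subtype.val (Subgroup.mem_center_iff.1 hc' ⟨d, hd⟩))) ((Subgroup.closure_le _).2 ?_)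
        rintro d (rfl | rfl) <;> rw [SetLike.mem_coe, Subgroup.mem_centralizer_singleton_iff]
        · exact hcx.symm
        · exact hcy.symm
      have htop : C ⊔ Subgroup.closure {x, y} = ⊤ := by
        have h4 := congrArg (Subgroup.comap φ) hrange
        rwa [Subgroup.comap_map_eq, Subgroup.comap_top, sup_comm, ← hC] at h4
      exact Subgroup.mem_centralizer_singleton_iff.1 (hle (htop ▸ Subgroup.mem_top g))
    · intro g hg
      have hgC : g ∈ C := by
        rw [hC, MonoidHom.mem_ker]
        refine Prod.ext (Subtype.ext ?_) (Subtype.ext ?_) <;>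
          exact commutatorElement_eq_one_iff_mul_comm.2
            (congrArg Subtype.val (Subgroup.mem_center_iff.1 hg _).symm)
      exact ⟨⟨g, hgC⟩, Subgroup.mem_center_iff.2 fun d =>
        Subtype.ext (Subgroup.mem_center_iff.1 hg d), rfl⟩
  rw [← hZ, Subgroup.index_map_subtype, hn', hindex]
  ring

/-- The order of an extraspecial group. -/
theorem exists_card_extraspecial (h : Cfsg.IsExtraspecial p S) :
    ∃ n : ℕ, 1 ≤ n ∧ Nat.card S = p ^ (1 + 2 * n) := by
  obtain ⟨n, hn⟩ := exists_index_center_eq (p := p) (S := S) h.1.2.2.le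
    (by rw [h.1.2.2, h.2])
  refine ⟨n, ?_, ?_⟩
  · by_contra h0
    have : n = 0 := by omega
    subst this
    rw [Nat.mul_zero, pow_zero, Subgroup.index_eq_one] at hn
    have h1 : commutator S = ⊥ := by
      rw [commutator_def, eq_bot_iff, Subgroup.commutator_le]
      intro a _ b _
      rw [Subgroup.mem_bot, commutatorElement_eq_one_iff_mul_comm]
      exact Subgroup.mem_center_iff.1 (hn ▸ Subgroup.mem_top b) a
    have h2 := h.2
    rw [← h.1.2.2, h1, Subgroup.card_bot] at h2
    exact hp.out.ne_one h2.symm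
  · have := (Subgroup.center S).card_mul_index
    rw [hn, h.2] at this
    rw [← this, pow_add, pow_one]

end CfsgLib.MetacyclicP
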