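import Mathlib
import Cfsg.Agent.Lib.HallHigmanB.Reduction

/-!
A linear map of prime order which does not centralise an `r`-group of linear maps (`r` odd, coprime
orders) fixes a nonzero vector.
-/

set_option autoImplicit false
set_option linter.style.haveILetI false

open Module

namespace CfsgLib.MetacyclicP

open CfsgLib.HallHigmanB

universe u v w

variable {K : Type u} [Field K]

/-- A family of endomorphisms has a minimal nonzero invariant subspace. -/
theorem exists_minimal_invariant {V : Type v} [AddCommGroup V] [Module K V] [FiniteDimensional K V]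
    [Nontrivial V] {ι : Type w} (σ : ι → Module.End K V) :
    ∃ U : Submodule K V, U ≠ ⊥ ∧ (∀ g, ∀ u ∈ U, σ g u ∈ U) ∧
      ∀ W : Submodule K V, W ≤ U → (∀ g, ∀ u ∈ W, σ g u ∈ W) → W = ⊥ ∨ W = U := by
  obtain ⟨U, hU⟩ := exists_minimal_of_wellFoundedLT
    (fun U : Submodule K V => U ≠ ⊥ ∧ ∀ g, ∀ u ∈ U, σ g u ∈ U)
    ⟨⊤, top_ne_bot, fun _ _ _ => Submodule.mem_top⟩
  refine ⟨U, hU.prop.1, hU.prop.2, fun W hW hWi => ?_⟩
  by_cases h : W = ⊥
  · exact Or.inl h
  · exact Or.inr (le_antisymm hW (hU.le_of_le ⟨h, hWi⟩ hW))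

/-- A map of finite order prime to the characteristic whose norm of some vector is nonzero fixes it. -/
theorem exists_fixed_of_sum_ne_zero {V : Type v} [AddCommGroup V] [Module K V] {θ : Module.End K V}
    {s : ℕ} (hθs : θ ^ s = 1) (x : V) (hx : ∑ i ∈ Finset.range s, (θ ^ i) x ≠ 0) :
    ∃ y, y ≠ 0 ∧ θ y = y := by
  refine ⟨_, hx, ?_⟩
  rw [map_sum]
  have h1 : ∀ i, θ ((θ ^ i) x) = (θ ^ (i + 1)) x := fun i => by rw [pow_succ']; rfl
  simp only [h1]
  have h2 := Finset.sum_range_succ (fun i => (θ ^ i) x) s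
  have h3 := Finset.sum_range_succ' (fun i => (θ ^ i) x) s
  rw [hθs] at h2
  rw [pow_zero] at h3
  exact add_right_cancel (h3.symm.trans h2)

section Nonabelian

variable [IsAlgClosed K] {V : Type v} [AddCommGroup V] [Module K V] [FiniteDimensional K V]
  [Nontrivial V] {Q : Type w} [Group Q] [Finite Q]

/-- An irreducible pair `(σ, θ)` with scalar centre and scalar commutators is irreducible under `σ`. -/
theorem irreducible_of_scalar_center (σ : Q →* Module.End K V) (hinj : Function.Injective σ)
    (φ : MulAut Q) (θ : Module.End K V) (hθu : IsUnit θ) (hθ : ∀ g, θ * σ g = σ (φ g) * θ)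
    (hirr : ∀ W : Submodule K V, (∀ g, ∀ v ∈ W, σ g v ∈ W) → (∀ v ∈ W, θ v ∈ W) → W = ⊥ ∨ W = ⊤)
    (hZ : ∀ g ∈ Subgroup.center Q, ∃ c : K, σ g = c • (1 : Module.End K V))
    (hcomm : ∀ a b : Q, ∃ c : K, σ (a * b * a⁻¹ * b⁻¹) = c • (1 : Module.End K V)) :
    ∀ W : Submodule K V, (∀ g, ∀ v ∈ W, σ g v ∈ W) → W = ⊥ ∨ W = ⊤ := by
  classical
  obtain ⟨U, hU0, hUi, hUmin⟩ := exists_minimal_invariant (fun g => σ g)
  suffices htop : U = ⊤ by
    intro W hW
    rw [← htop]
    exact hUmin W (htop ▸ le_top) hW
  haveI : Nontrivial U := Submodule.nontrivial_iff_ne_bot.2 hU0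
  let σU : Q →* Module.End K U :=
    { toFun := fun g => (σ g).restrict (hUi g)
      map_one' := LinearMap.ext fun x => Subtype.ext (by simp)
      map_mul' := fun a b => LinearMap.ext fun x => Subtype.ext (by simp) }
  have hσU : ∀ g (x : U), ((σU g x : U) : V) = σ g x := fun g x => rfl
  have hirrU : ∀ W : Submodule K U, (∀ g, ∀ w ∈ W, σU g w ∈ W) → W = ⊥ ∨ W = ⊤ := by
    intro W hW
    rcases hUmin (W.map U.subtype) (Submodule.map_subtype_le U W) (fun g u hu => by
      obtain ⟨x, hx, rfl⟩ := hu
      exact ⟨σU g x, hW g x hx, rfl⟩) with h | h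
    · left
      exact Submodule.map_injective_of_injective U.injective_subtype (by rw [h, Submodule.map_bot])
    · right
      exact Submodule.map_injective_of_injective U.injective_subtype (by rw [h, Submodule.map_subtype_top])
  -- the two spans
  have hspanU := span_range_eq_top σU hirrU
  have hcentral : ∀ g, (∃ c : K, σU g = c • (1 : Module.End K U)) → g ∈ Subgroup.center Q := by
    rintro g ⟨c, hc⟩
    rw [Subgroup.mem_center_iff]
    intro a
    obtain ⟨d, hd⟩ := hcomm a g
    have h1 : σU (a * g * a⁻¹ * g⁻¹) = 1 := by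
      rw [map_mul, map_mul, map_mul, hc, mul_smul_comm, mul_one, smul_mul_assoc, ← map_mul,
        mul_inv_cancel, map_one, smul_mul_assoc, one_mul]
      have h2 : σU g * σU g⁻¹ = 1 := by rw [← map_mul, mul_inv_cancel, map_one]
      rwa [hc, smul_mul_assoc, one_mul] at h2
    obtain ⟨x, hx⟩ := exists_ne (0 : U)
    have h3 : (d • (x : V)) = x := by
      have h4 := congrArg (fun f => ((f x : U) : V)) h1
      simp only [hσU, hd] at h4
      simpa using h4
    have hx' : (x : V) ≠ 0 := fun h => hx (Subtype.ext h)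
    have hd1 : d = 1 := by
      have h5 : (d - 1) • (x : V) = 0 := by rw [sub_smul, h3, one_smul, sub_self]
      exact sub_eq_zero.1 ((smul_eq_zero.1 h5).resolve_right hx')
    rw [hd1, one_smul] at hd
    have h6 : a * g * a⁻¹ * g⁻¹ = 1 := hinj (hd.trans (map_one σ).symm)
    rw [mul_inv_eq_one, mul_inv_eq_iff_eq_mul] at h6
    exact h6
  -- extension of `σU g ↦ σ g` to a linear map
  have hT : ∃ T : Module.End K U →ₗ[K] Module.End K V, ∀ g, T (σU g) = σ g := by
    -- relations among the `σU g` hold for the `σ g`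
    let A : (Q →₀ K) →ₗ[K] Module.End K U := Finsupp.linearCombination K (fun g => σU g)
    let B : (Q →₀ K) →ₗ[K] Module.End K V := Finsupp.linearCombination K (fun g => σ g)
    suffices hker : LinearMap.ker A ≤ LinearMap.ker B by
      have hA : LinearMap.range A = ⊤ := by rw [Finsupp.range_linearCombination, hspanU]
      obtain ⟨S, hS⟩ := A.exists_rightInverse_of_surjective hA
      refine ⟨B.comp S, fun g => ?_⟩
      have h1 : A (S (σU g) - Finsupp.single g 1) = 0 := by
        rw [map_sub]
        have := LinearMap.congr_fun hS (σU g)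
        rw [LinearMap.comp_apply, LinearMap.id_apply] at this
        rw [this]
        simp [A]
      have h2 := LinearMap.mem_ker.1 (hker (LinearMap.mem_ker.2 h1))
      rw [map_sub, sub_eq_zero] at h2
      rw [LinearMap.comp_apply, h2]
      simp [B]
    -- reduce to representatives of the cosets of the centre
    let rep : Q ⧸ Subgroup.center Q → Q := fun x => Quotient.out x
    have hrep : ∀ g : Q, ∃ c : K, σU g = c • σU (rep (g : Q ⧸ Subgroup.center Q)) ∧
        σ g = c • σ (rep (g : Q ⧸ Subgroup.center Q)) := by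
      intro g
      set r := rep (g : Q ⧸ Subgroup.center Q)
      have hmem : r⁻¹ * g ∈ Subgroup.center Q := QuotientGroup.eq.1 (Quotient.out_eq _)
      obtain ⟨c, hc⟩ := hZ _ hmem
      have hσg : σ g = c • σ r := by
        rw [show g = r * (r⁻¹ * g) by group, map_mul, hc, mul_smul_comm, mul_one]
      exact ⟨c, LinearMap.ext fun x => Subtype.ext (by
        rw [hσU, hσg]; rfl), hσg⟩
    choose c hcU hcV using hrep
    have hli : LinearIndependent K (fun x => σU (rep x)) := by
      have hne : ∀ x, σU (rep x) ≠ 0 := fun x h => by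
        have h1 : σU (rep x) * σU (rep x)⁻¹ = 1 := by rw [← map_mul, mul_inv_cancel, map_one]
        rw [h, zero_mul] at h1
        exact zero_ne_one h1
      choose d hd using hcomm
      refine linearIndependent_of_eigen _ hne
        (fun g => (LinearMap.mulLeft K (σU g)).comp (LinearMap.mulRight K (σU g⁻¹)))
        (fun x g => d g (rep x)) (fun x g => ?_) (fun x y hxy => ?_)
      · show σU g * (σU (rep x) * σU g⁻¹) = _
        rw [← map_mul, ← map_mul]
        refine LinearMap.ext fun z => Subtype.ext ?_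
        rw [hσU, show g * (rep x * g⁻¹) = g * rep x * g⁻¹ * (rep x)⁻¹ * rep x by group, map_mul, hd,
          smul_mul_assoc, one_mul]
        rfl
      · have key : (rep x)⁻¹ * rep y ∈ Subgroup.center Q := by
          rw [Subgroup.mem_center_iff]
          intro g
          set a := rep x
          set b := rep y
          have hconj : ∀ z, σ (g * z * g⁻¹) = d g z • σ z := fun z => by
            rw [show g * z * g⁻¹ = g * z * g⁻¹ * z⁻¹ * z by group, map_mul, hd, smul_mul_assoc, one_mul]
          apply hinj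
          have h1 : σ (g * (a⁻¹ * b) * g⁻¹) = σ (a⁻¹ * b) := by
            have h2 : σ (g * b * g⁻¹) = σ (g * a * g⁻¹) * σ (a⁻¹ * b) := by
              rw [hconj a, hconj b, smul_mul_assoc, ← map_mul, mul_inv_cancel_left, hxy g]
            have h3 : σ (g * b * g⁻¹) = σ (g * a * g⁻¹) * σ (g * (a⁻¹ * b) * g⁻¹) := by
              rw [← map_mul]; congr 1; group
            have h4 := congrArg (σ (g * a * g⁻¹)⁻¹ * ·) (h3.symm.trans h2)
            simpa [← mul_assoc, ← map_mul] using h4
          have h5 := congrArg (· * σ g) h1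
          simp only [← map_mul] at h5
          rwa [inv_mul_cancel_right] at h5
        rw [← Quotient.out_eq x, ← Quotient.out_eq y]
        exact QuotientGroup.eq.2 key
    intro f hf
    rw [LinearMap.mem_ker] at hf ⊢
    haveI : Fintype Q := Fintype.ofFinite Q
    haveI : Fintype (Q ⧸ Subgroup.center Q) := Fintype.ofFinite _
    simp only [A, B, Finsupp.linearCombination_apply, Finsupp.sum_fintype, zero_smul,
      implies_true] at hf ⊢
    have e1 : ∀ g, f g • σU g = (f g * c g) • σU (rep (g : Q ⧸ Subgroup.center Q)) := fun g => by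
      rw [hcU g, smul_smul]
    have e2 : ∀ g, f g • σ g = (f g * c g) • σ (rep (g : Q ⧸ Subgroup.center Q)) := fun g => by
      rw [hcV g, smul_smul]
    rw [Finset.sum_congr rfl (fun g _ => e1 g)] at hf
    rw [Finset.sum_congr rfl (fun g _ => e2 g)]
    rw [← Finset.sum_fiberwise (Finset.univ : Finset Q) (fun g => (g : Q ⧸ Subgroup.center Q))] at hf ⊢
    have hsum : ∀ (M : Type (max v v)) [AddCommGroup M] [Module K M] (e : Q ⧸ Subgroup.center Q → M),
        (∑ x, ∑ g ∈ Finset.univ.filter (fun g : Q => (g : Q ⧸ Subgroup.center Q) = x),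
          (f g * c g) • e (g : Q ⧸ Subgroup.center Q)) =
        ∑ x, (∑ g ∈ Finset.univ.filter (fun g : Q => (g : Q ⧸ Subgroup.center Q) = x),
          f g * c g) • e x := by
      intro M _ _ e
      refine Finset.sum_congr rfl fun x _ => ?_
      rw [Finset.sum_smul]
      exact Finset.sum_congr rfl fun g hg => by rw [(Finset.mem_filter.1 hg).2]
    rw [hsum _ (fun x => σU (rep x))] at hf
    rw [hsum _ (fun x => σ (rep x))]
    refine Finset.sum_eq_zero fun x _ => ?_
    rw [Fintype.linearIndependent_iff.1 hli _ hf x, zero_smul]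
  obtain ⟨T, hTσ⟩ := hT
  have hTmul : ∀ f g, T (f * g) = T f * T g := by
    intro f g
    have hf : f ∈ Submodule.span K (Set.range σU) := hspanU ▸ Submodule.mem_top
    have hg : g ∈ Submodule.span K (Set.range σU) := hspanU ▸ Submodule.mem_top
    induction hf using Submodule.span_induction with
    | mem a ha =>
      obtain ⟨a, rfl⟩ := ha
      induction hg using Submodule.span_induction with
      | mem b hb =>
        obtain ⟨b, rfl⟩ := hb
        rw [← map_mul, hTσ, hTσ, hTσ, map_mul]
      | zero => simp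
      | add x y _ _ hx hy => rw [mul_add, map_add, map_add, mul_add, hx, hy]
      | smul k x _ hx => rw [mul_smul_comm, map_smul, map_smul, mul_smul_comm, hx]
    | zero => simp
    | add x y _ _ hx hy => rw [add_mul, map_add, map_add, add_mul, hx, hy]
    | smul k x _ hx => rw [smul_mul_assoc, map_smul, map_smul, smul_mul_assoc, hx]
  have hTres : ∀ f (x : U), T f (x : V) = (f x : U) := by
    intro f x
    have hf : f ∈ Submodule.span K (Set.range σU) := hspanU ▸ Submodule.mem_top
    induction hf using Submodule.span_induction with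
    | mem a ha => obtain ⟨a, rfl⟩ := ha; rw [hTσ, hσU]
    | zero => simp
    | add x y _ _ hx hy => simp [hx, hy]
    | smul k x _ hx => simp [hx]
  have hTinj : Function.Injective T := fun f g h => LinearMap.ext fun x => Subtype.ext (by
    rw [← hTres, h, hTres])
  -- conjugation by `θ` preserves the range of `T`
  obtain ⟨θu, rfl⟩ := hθu
  have hrange : ∀ f, ∃ g, (θu : Module.End K V) * T f = T g * θu := by
    intro f
    have hf : f ∈ Submodule.span K (Set.range σU) := hspanU ▸ Submodule.mem_top
    induction hf using Submodule.span_induction with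
    | mem a ha => obtain ⟨a, rfl⟩ := ha; exact ⟨σU (φ a), by rw [hTσ, hTσ, hθ]⟩
    | zero => exact ⟨0, by simp⟩
    | add x y _ _ hx hy =>
      obtain ⟨a, ha⟩ := hx; obtain ⟨b, hb⟩ := hy
      exact ⟨a + b, by rw [map_add, map_add, mul_add, add_mul, ha, hb]⟩
    | smul k x _ hx =>
      obtain ⟨a, ha⟩ := hx
      exact ⟨k • a, by rw [map_smul, map_smul, mul_smul_comm, smul_mul_assoc, ha]⟩
  have hrange' : ∀ g, ∃ f, (θu : Module.End K V) * T f = T g * θu := by
    intro g
    have hg : g ∈ Submodule.span K (Set.range σU) := hspanU ▸ Submodule.mem_top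
    induction hg using Submodule.span_induction with
    | mem a ha =>
      obtain ⟨a, rfl⟩ := ha
      exact ⟨σU (φ.symm a), by rw [hTσ, hTσ, hθ, φ.apply_symm_apply]⟩
    | zero => exact ⟨0, by simp⟩
    | add x y _ _ hx hy =>
      obtain ⟨a, ha⟩ := hx; obtain ⟨b, hb⟩ := hy
      exact ⟨a + b, by rw [map_add, map_add, mul_add, add_mul, ha, hb]⟩
    | smul k x _ hx =>
      obtain ⟨a, ha⟩ := hx
      exact ⟨k • a, by rw [map_smul, map_smul, mul_smul_comm, smul_mul_assoc, ha]⟩
  -- a rank one idempotent and its image under `θ`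
  obtain ⟨u0, hu0⟩ := exists_ne (0 : U)
  obtain ⟨ℓ, hℓ⟩ : ∃ ℓ : U →ₗ[K] K, ℓ u0 = 1 := by
    obtain ⟨ℓ, hℓ⟩ := Module.Projective.exists_dual_ne_zero K hu0
    exact ⟨(ℓ u0)⁻¹ • ℓ, by simp [hℓ]⟩
  let e : Module.End K U := ℓ.smulRight u0
  have hee : ∀ f, e * f * e = ℓ (f u0) • e := fun f => LinearMap.ext fun x => by
    simp [e, smul_smul, mul_comm]
  obtain ⟨e', he'⟩ := hrange e
  have hθcancel : ∀ {a b : Module.End K V}, a * θu = b * θu → a = b :=
    fun {a b} h => (Units.mul_left_inj θu).1 h
  have he'e : ∀ f, ∃ c : K, e' * f * e' = c • e' := by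
    intro f
    obtain ⟨f0, hf0⟩ := hrange' f
    refine ⟨ℓ (f0 u0), hTinj (hθcancel ?_)⟩
    calc T (e' * f * e') * θu = T e' * T f * T e' * θu := by rw [hTmul, hTmul]
      _ = T e' * T f * (θu * T e) := by rw [he']; noncomm_ring
      _ = T e' * (T f * θu) * T e := by noncomm_ring
      _ = T e' * (θu * T f0) * T e := by rw [hf0]
      _ = (T e' * θu) * T f0 * T e := by noncomm_ring
      _ = θu * T (e * f0 * e) := by rw [← he', hTmul, hTmul]; noncomm_ring
      _ = T (ℓ (f0 u0) • e') * θu := by
        rw [hee, map_smul, map_smul, mul_smul_comm, he', smul_mul_assoc]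
  obtain ⟨u1, hu1⟩ : ∃ u1, e' u1 ≠ 0 := by
    by_contra! h
    have h0 : e' = 0 := LinearMap.ext h
    rw [h0, map_zero, zero_mul, Units.mul_right_eq_zero] at he'
    have := hTinj (he'.trans (map_zero T).symm)
    exact hu0 (by simpa [e, hℓ] using LinearMap.congr_fun this u0)
  obtain ⟨ℓ1, hℓ1⟩ : ∃ ℓ1 : U →ₗ[K] K, ℓ1 (e' u1) = 1 := by
    obtain ⟨ℓ', hℓ'⟩ := Module.Projective.exists_dual_ne_zero K hu1
    exact ⟨(ℓ' (e' u1))⁻¹ • ℓ', by simp [hℓ']⟩
  have he'1 : e' (e' u1) = e' u1 := by
    have h1 : e' * e' = e' := hTinj (hθcancel (by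
      rw [hTmul, mul_assoc, ← he', ← mul_assoc, ← he', mul_assoc, ← hTmul]
      congr 2
      simpa [hℓ] using hee 1))
    rw [← Module.End.mul_apply, h1]
  let a : Module.End K U := ℓ1.smulRight u0
  let b : Module.End K U := ℓ.smulRight (e' u1)
  have hbea : e' * (b * (e * a)) * e' = e' := by
    obtain ⟨c, hc⟩ := he'e (b * (e * a))
    rw [hc]
    have h1 := LinearMap.congr_fun hc (e' u1)
    simp only [Module.End.mul_apply, LinearMap.smul_apply, he'1] at h1
    simp [e, a, b, hℓ, hℓ1, he'1] at h1
    have hc1 : c = 1 := by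
      have h5 : (c - 1) • e' u1 = 0 := by rw [sub_smul, ← h1, one_smul, sub_self]
      exact sub_eq_zero.1 ((smul_eq_zero.1 h5).resolve_right hu1)
    rw [hc1, one_smul]
  set M := LinearMap.range (T e) with hM
  have hTe2 : T e * T e = T e := by
    rw [← hTmul]; congr 1
    simpa [hℓ] using hee 1
  let g : Module.End K M := LinearMap.restrict (T (e * a) * (θu : Module.End K V)) (p := M) (q := M) fun v _ => by
    rw [hTmul]; exact ⟨T a ((θu : Module.End K V) v), rfl⟩
  have hfix : ∀ v ∈ M, T e v = v := by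
    rintro _ ⟨x, rfl⟩
    rw [← Module.End.mul_apply, hTe2]
  have hginj : ∀ v ∈ M, T (e * a) ((θu : Module.End K V) v) = 0 → v = 0 := by
    intro v hv h0
    have hy : T e' ((θu : Module.End K V) v) = (θu : Module.End K V) v := by
      rw [← Module.End.mul_apply, ← he', Module.End.mul_apply, hfix v hv]
    have h1 : T (e' * (b * (e * a)) * e') ((θu : Module.End K V) v) = (θu : Module.End K V) v := by
      rw [hbea, hy]
    rw [hTmul, hTmul, hTmul, Module.End.mul_apply, hy] at h1
    simp only [Module.End.mul_apply, h0, map_zero] at h1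
    exact ((Module.End.isUnit_iff _).1 θu.isUnit).injective (by rw [← h1, map_zero])
  haveI : Nontrivial M := by
    rw [Submodule.nontrivial_iff_ne_bot, hM, Ne, LinearMap.range_eq_bot]
    intro h
    have := hTinj (h.trans (map_zero T).symm)
    exact hu0 (by simpa [e, hℓ] using LinearMap.congr_fun this u0)
  obtain ⟨c, hc⟩ := Module.End.exists_eigenvalue g
  obtain ⟨⟨v0, hv0M⟩, hv0⟩ := hc.exists_hasEigenvector
  have hv0' : v0 ≠ 0 := fun h => hv0.2 (Subtype.ext h)
  have hgv : T (e * a) ((θu : Module.End K V) v0) = c • v0 := by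
    exact congrArg Subtype.val hv0.apply_eq_smul
  -- the invariant subspace generated by `v0`
  let fv : U →ₗ[K] V :=
    { toFun := fun u => T (ℓ.smulRight u) v0
      map_add' := fun x y => by
        rw [show ℓ.smulRight (x + y) = ℓ.smulRight x + ℓ.smulRight y from
          LinearMap.ext fun z => by simp, map_add, LinearMap.add_apply]
      map_smul' := fun k x => by
        rw [show ℓ.smulRight (k • x) = k • ℓ.smulRight x from LinearMap.ext fun z =>
          smul_comm (ℓ z) k x, map_smul, LinearMap.smul_apply]; rfl }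
  have hfvi : ∀ f u, T f (fv u) = fv (f u) := fun f u => by
    show T f (T (ℓ.smulRight u) v0) = T (ℓ.smulRight (f u)) v0
    rw [← Module.End.mul_apply, ← hTmul]
    congr 2
    exact LinearMap.ext fun z => by simp
  have hv0mem : v0 ∈ LinearMap.range fv := ⟨u0, hfix v0 hv0M⟩
  have hθv0 : (θu : Module.End K V) v0 ∈ LinearMap.range fv := by
    have hy : T e' ((θu : Module.End K V) v0) = (θu : Module.End K V) v0 := by
      rw [← Module.End.mul_apply, ← he', Module.End.mul_apply, hfix v0 hv0M]
    refine ⟨c • e' (b u0), ?_⟩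
    have h1 : T (e' * (b * (e * a)) * e') ((θu : Module.End K V) v0) = (θu : Module.End K V) v0 := by
      rw [hbea, hy]
    rw [hTmul, hTmul, hTmul, Module.End.mul_apply, hy] at h1
    simp only [Module.End.mul_apply, hgv, map_smul] at h1
    rw [map_smul, ← hfvi, ← hfvi, show fv u0 = v0 from hfix v0 hv0M]
    exact h1
  have hWtop : LinearMap.range fv = ⊤ := by
    refine (hirr _ ?_ ?_).resolve_left ?_
    · rintro g _ ⟨u, rfl⟩
      exact ⟨σU g u, by rw [← hfvi, hTσ]⟩
    · rintro _ ⟨u, rfl⟩
      obtain ⟨f, hf⟩ := hrange (ℓ.smulRight u)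
      show (θu : Module.End K V) (T (ℓ.smulRight u) v0) ∈ LinearMap.range fv
      rw [← Module.End.mul_apply, hf, Module.End.mul_apply]
      obtain ⟨u', hu'⟩ := hθv0
      exact ⟨f u', by rw [← hfvi, hu']⟩
    · intro h
      exact hv0' (by simpa [h] using hv0mem)
  refine Submodule.eq_top_of_finrank_eq (le_antisymm (Submodule.finrank_le U) ?_)
  rw [← finrank_top K V, ← hWtop]
  exact LinearMap.finrank_range_le fv

/-- The counting step: an irreducible `r`-group (`r` odd) with scalar centre, permuted semiregularly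
modulo the centre by a map of prime order without fixed vectors, is impossible. -/
theorem false_of_irreducible (σ : Q →* Module.End K V) (hinj : Function.Injective σ) {r : ℕ}
    [Fact r.Prime] (hr : r ≠ 2) (hQ : IsPGroup r Q) (φ : MulAut Q) (θ : Module.End K V) {s : ℕ}
    [Fact s.Prime] (hθs : θ ^ s = 1) (hsK : (s : K) ≠ 0) (hθ : ∀ g, θ * σ g = σ (φ g) * θ)
    (hirr : ∀ W : Submodule K V, (∀ g, ∀ v ∈ W, σ g v ∈ W) → W = ⊥ ∨ W = ⊤)
    (hcomm : ∀ a b : Q, ∃ c : K, σ (a * b * a⁻¹ * b⁻¹) = c • (1 : Module.End K V))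
    (hfree : ∀ g : Q, ∀ i, 0 < i → i < s → g⁻¹ * (φ ^ i) g ∈ Subgroup.center Q →
      g ∈ Subgroup.center Q)
    (hnab : Subgroup.center Q ≠ ⊤) (hfpf : ∀ v, θ v = v → v = 0) : False := by
  classical
  have hs : s.Prime := Fact.out
  set Z := Subgroup.center Q with hZdef
  have hsc : ∀ g, (∃ c : K, σ g = c • (1 : Module.End K V)) ↔ g ∈ Z := by
    intro g
    constructor
    · rintro ⟨c, hc⟩
      rw [hZdef, Subgroup.mem_center_iff]
      intro a
      apply hinj
      rw [map_mul, map_mul, hc, mul_smul_comm, mul_one, smul_mul_assoc, one_mul]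
    · intro hg
      exact exists_scalar (fun a => σ a) hirr fun a => by
        rw [← map_mul, ← map_mul, Subgroup.mem_center_iff.1 hg a]
  have hφZ : ∀ g, g ∈ Z ↔ φ g ∈ Z := fun g => by
    rw [hZdef, Subgroup.mem_center_iff, Subgroup.mem_center_iff]
    refine ⟨fun h a => ?_, fun h a => φ.injective (by rw [map_mul, map_mul]; exact h (φ a))⟩
    obtain ⟨b, rfl⟩ := φ.surjective a
    rw [← map_mul, ← map_mul, h b]
  let X := Q ⧸ Z
  haveI : Fintype X := Fintype.ofFinite X
  let rep : X → Q := fun x => Quotient.out x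
  have hrep : ∀ x : X, (QuotientGroup.mk (rep x) : X) = x := fun x => Quotient.out_eq x
  choose χ hχ using hcomm
  have hne : ∀ g, σ g ≠ 0 := fun g h => by
    have h1 : σ g * σ g⁻¹ = 1 := by rw [← map_mul, mul_inv_cancel, map_one]
    rw [h, zero_mul] at h1
    exact zero_ne_one h1
  have hconj : ∀ g z : Q, σ (g * z * g⁻¹) = χ g z • σ z := fun g z => by
    rw [show g * z * g⁻¹ = g * z * g⁻¹ * z⁻¹ * z by group, map_mul, hχ, smul_mul_assoc, one_mul]
  have hli : LinearIndependent K (fun x => σ (rep x)) := by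
    refine linearIndependent_of_eigen _ (fun x => hne _)
      (fun g => (LinearMap.mulLeft K (σ g)).comp (LinearMap.mulRight K (σ g⁻¹)))
      (fun x g => χ g (rep x)) (fun x g => ?_) (fun x y hxy => ?_)
    · show σ g * (σ (rep x) * σ g⁻¹) = _
      rw [← map_mul, ← map_mul, ← mul_assoc, hconj]
    · have key : (rep x)⁻¹ * rep y ∈ Z := by
        rw [hZdef, Subgroup.mem_center_iff]
        intro g
        set a := rep x
        set b := rep y
        have h2 : σ (g * b * g⁻¹) = σ (g * a * g⁻¹) * σ (a⁻¹ * b) := by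
          rw [hconj g a, hconj g b, smul_mul_assoc, ← map_mul, mul_inv_cancel_left, hxy g]
        have h3 : σ (g * b * g⁻¹) = σ (g * a * g⁻¹ * (g * (a⁻¹ * b) * g⁻¹)) := by congr 1; group
        rw [h3, ← map_mul] at h2
        have h4 := mul_left_cancel (hinj h2)
        exact mul_inv_eq_iff_eq_mul.1 h4
      rw [← hrep x, ← hrep y]
      exact QuotientGroup.eq.2 key
  have hrel : ∀ a b : Q, (a : X) = (b : X) → ∃ c : K, σ a = c • σ b := by
    intro a b hab
    obtain ⟨c, hc⟩ := (hsc _).2 (QuotientGroup.eq.1 hab.symm : b⁻¹ * a ∈ Z)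
    exact ⟨c, by rw [show a = b * (b⁻¹ * a) by group, map_mul, hc, mul_smul_comm, mul_one]⟩
  have hspan : ⊤ ≤ Submodule.span K (Set.range fun x => σ (rep x)) := by
    rw [← span_range_eq_top σ hirr, Submodule.span_le]
    rintro _ ⟨g, rfl⟩
    obtain ⟨c, hc⟩ := hrel g (rep (g : X)) (hrep _).symm
    rw [SetLike.mem_coe, hc]
    exact Submodule.smul_mem _ c (Submodule.subset_span ⟨_, rfl⟩)
  let B : Basis X K (Module.End K V) := Basis.mk hli hspan
  have hN2 : Fintype.card X = finrank K V ^ 2 := by
    rw [← finrank_eq_card_basis B, Module.finrank_linearMap, pow_two]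
  have hN : 2 ≤ finrank K V := by
    have hX : 1 < Fintype.card X := by
      rw [← Nat.card_eq_fintype_card]
      exact Subgroup.one_lt_index_of_ne_top hnab
    rw [hN2] at hX
    by_contra hlt
    interval_cases finrank K V <;> simp at hX
  -- the monomial map
  have hθu : IsUnit θ := IsUnit.of_pow_eq_one hθs hs.ne_zero
  have hφs : ∀ g, (φ ^ s) g = g := by
    intro g
    apply hinj
    have h := intertwine_pow (fun g => σ g) φ θ hθ s g
    rw [hθs, one_mul, mul_one] at h
    exact h.symm
  let τ : Equiv.Perm X :=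
    { toFun := QuotientGroup.map Z Z φ.toMonoidHom (fun g hg => (hφZ g).1 hg)
      invFun := QuotientGroup.map Z Z φ.symm.toMonoidHom (fun g hg => by
        rw [Subgroup.mem_comap, hφZ]; simpa using hg)
      left_inv := fun x => by
        induction x using QuotientGroup.induction_on with | _ g => simp
      right_inv := fun x => by
        induction x using QuotientGroup.induction_on with | _ g => simp }
  have hτ : ∀ (k : ℕ) (g : Q), (τ ^ k) (g : X) = (((φ ^ k) g : Q) : X) := by
    intro k
    induction k with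
    | zero => intro g; rfl
    | succ k ih => intro g; rw [pow_succ', pow_succ', Equiv.Perm.mul_apply, ih, MulAut.mul_apply]; rfl
  have hτs : τ ^ s = 1 := by
    ext x; rw [← hrep x, hτ, hφs]; rfl
  have hτfree : ∀ x : X, ∀ i, 0 < i → i < s → (τ ^ i) x = x → x = ((1 : Q) : X) := by
    intro x i hi his hx
    rw [← hrep x, hτ] at hx
    rw [← hrep x]
    exact (QuotientGroup.eq_one_iff (rep x)).2 (hfree _ i hi his (QuotientGroup.eq.1 hx.symm))
  obtain ⟨θu, hθu'⟩ := hθu
  have hinv : θ * (↑θu⁻¹ : Module.End K V) = 1 := by rw [← hθu']; exact θu.mul_inv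
  let L : Module.End K V →ₗ[K] Module.End K V :=
    (LinearMap.mulLeft K θ).comp (LinearMap.mulRight K (↑θu⁻¹ : Module.End K V))
  have hω : ∀ x : X, ∃ c : K, c ≠ 0 ∧ L (B x) = c • B (τ x) := by
    intro x
    simp only [B, Basis.mk_apply]
    obtain ⟨c, hc⟩ := hrel (φ (rep x)) (rep (τ x)) (by
      rw [hrep]; conv_rhs => rw [← hrep x]
      rfl)
    refine ⟨c, ?_, ?_⟩
    · rintro rfl
      rw [zero_smul] at hc
      exact hne _ hc
    · show θ * (σ (rep x) * ↑θu⁻¹) = _
      rw [← mul_assoc, hθ, mul_assoc, hinv, mul_one, hc]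
  choose ω hω0 hωe using hω
  have horb := finrank_fixed_monomial B L τ ω hω0 hωe (P := s) hs.one_le ((1 : Q) : X) hτs
    (by show ((φ 1 : Q) : X) = _; rw [map_one]) hτfree
  -- an eigenbasis
  have hsq : Squarefree ((Polynomial.X : Polynomial K) ^ s - 1) :=
    (Polynomial.X_pow_sub_one_separable_iff.2 hsK).squarefree
  have hss : Module.End.IsSemisimple θ :=
    Module.End.isSemisimple_of_squarefree_aeval_eq_zero hsq (by simp [hθs])
  have htop : ⨆ μ : K, θ.eigenspace μ = ⊤ := by
    rw [← Module.End.iSup_maxGenEigenspace_eq_top θ]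
    exact iSup_congr fun μ => (hss.isFinitelySemisimple.maxGenEigenspace_eq_eigenspace μ).symm
  have hint : DirectSum.IsInternal (fun μ : K => θ.eigenspace μ) :=
    DirectSum.isInternal_submodule_of_iSupIndep_of_iSup_eq_top θ.eigenspaces_iSupIndep htop
  let eb := fun μ : K => Module.finBasis K (θ.eigenspace μ)
  let b := hint.collectedBasis eb
  haveI : Fintype (Σ μ : K, Fin (finrank K (θ.eigenspace μ))) :=
    FiniteDimensional.fintypeBasisIndex b
  let d : (Σ μ : K, Fin (finrank K (θ.eigenspace μ))) → K := fun i => i.1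
  have hd : ∀ i, θ (b i) = d i • b i := fun i =>
    Module.End.mem_eigenspace_iff.1 (hint.collectedBasis_mem eb i)
  let μs : Finset K := (Finset.univ.image d)
  have hμs : μs.card ≤ s - 1 := by
    have hsub : μs ⊆ (Polynomial.nthRoots s (1 : K)).toFinset.erase 1 := by
      intro μ hμ
      obtain ⟨i, -, rfl⟩ := Finset.mem_image.1 hμ
      refine Finset.mem_erase.2 ⟨fun h1 => b.ne_zero i (hfpf _ (by rw [hd, h1, one_smul])), ?_⟩
      rw [Multiset.mem_toFinset, Polynomial.mem_nthRoots hs.pos]
      have hpow : ∀ j : ℕ, (θ ^ j) (b i) = d i ^ j • b i := by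
        intro j
        induction j with
        | zero => simp
        | succ j ih => rw [pow_succ', Module.End.mul_apply, ih, map_smul, hd, smul_smul, pow_succ]
      have h1 := hpow s
      rw [hθs, Module.End.one_apply] at h1
      have h2 : (d i ^ s - 1) • b i = 0 := by rw [sub_smul, one_smul, ← h1, sub_self]
      exact sub_eq_zero.1 ((smul_eq_zero.1 h2).resolve_right (b.ne_zero i))
    refine (Finset.card_le_card hsub).trans ?_
    have h1 : (1 : K) ∈ (Polynomial.nthRoots s (1 : K)).toFinset := by
      rw [Multiset.mem_toFinset, Polynomial.mem_nthRoots hs.pos, one_pow]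
    rw [Finset.card_erase_of_mem h1]
    exact Nat.sub_le_sub_right ((Multiset.toFinset_card_le _).trans (Polynomial.card_nthRoots s 1)) 1
  set S := (Finset.univ ×ˢ Finset.univ).filter
    (fun ij : (Σ μ : K, Fin (finrank K (θ.eigenspace μ))) × _ => d ij.1 = d ij.2) with hS
  have hC : S.card ≤ finrank K (LinearMap.ker (L - 1)) := by
    let E : S → Module.End K V := fun ij => b.constr K (fun k => if k = ij.1.1 then b ij.1.2 else 0)
    have hE : LinearIndependent K E := by
      rw [Fintype.linearIndependent_iff]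
      intro g hg ij
      have h1 := congrArg (fun f : Module.End K V => b.repr (f (b ij.1.1)) ij.1.2) hg
      simp only [LinearMap.sum_apply, LinearMap.smul_apply, map_sum, map_smul, E, Basis.constr_basis,
        Finsupp.coe_finsetSum, Finset.sum_apply, Finsupp.coe_smul, Pi.smul_apply, smul_eq_mul,
        LinearMap.zero_apply, map_zero, Finsupp.coe_zero, Pi.zero_apply] at h1
      rw [Finset.sum_eq_single ij] at h1
      · simpa using h1
      · intro kl _ hne'
        by_cases hk : ij.1.1 = kl.1.1
        · rw [if_pos hk, b.repr_self, Finsupp.single_eq_of_ne, mul_zero]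
          intro hl
          exact hne' (Subtype.ext (Prod.ext hk.symm hl.symm))
        · simp [if_neg hk]
      · intro h; exact absurd (Finset.mem_univ _) h
    refine le_trans ?_ (Submodule.finrank_mono (s := Submodule.span K (Set.range E)) ?_)
    · rw [finrank_span_eq_card hE, Fintype.card_coe]
    · rw [Submodule.span_le]
      rintro _ ⟨⟨⟨i, j⟩, hij⟩, rfl⟩
      have hdij : d i = d j := (Finset.mem_filter.1 hij).2
      rw [SetLike.mem_coe, LinearMap.mem_ker, LinearMap.sub_apply, Module.End.one_apply, sub_eq_zero]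
      have h1 : θ * E ⟨⟨i, j⟩, hij⟩ = E ⟨⟨i, j⟩, hij⟩ * θ := by
        refine b.ext fun k => ?_
        simp only [Module.End.mul_apply, E, Basis.constr_basis, hd, map_smul]
        by_cases hk : k = i
        · subst hk; simp [hd, hdij]
        · simp [hk]
      show θ * (E ⟨⟨i, j⟩, hij⟩ * ↑θu⁻¹) = _
      rw [← mul_assoc, h1, mul_assoc, hinv, mul_one]
  have hcauchy : finrank K V ^ 2 ≤ μs.card * S.card := by
    have h1 : finrank K V = ∑ μ ∈ μs, (Finset.univ.filter fun i => d i = μ).card := by
      rw [← Finset.card_eq_sum_card_image, Finset.card_univ, finrank_eq_card_basis b]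
    have h2 : S.card = ∑ μ ∈ μs, (Finset.univ.filter fun i => d i = μ).card ^ 2 := by
      rw [Finset.card_eq_sum_card_fiberwise (f := fun ij => d ij.1) (t := μs) (s := S)
        (fun ij _ => Finset.mem_image_of_mem d (Finset.mem_univ _))]
      refine Finset.sum_congr rfl fun μ _ => ?_
      rw [pow_two, ← Finset.card_product]
      congr 1
      ext ⟨i, j⟩
      simp only [hS, Finset.mem_filter, Finset.mem_product, Finset.mem_univ, true_and]
      exact ⟨fun h => ⟨h.2, h.1 ▸ h.2⟩, fun h => ⟨h.1.trans h.2.symm, h.1⟩⟩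
    rw [h1, h2]
    exact sq_sum_le_card_mul_sum_sq
  rw [hN2] at horb
  set N := finrank K V with hNdef
  have h3 : N ^ 2 ≤ (s - 1) * S.card := hcauchy.trans (Nat.mul_le_mul_right _ hμs)
  obtain ⟨m, hm⟩ : ∃ m, s = m + 1 := ⟨s - 1, by have := hs.pos; omega⟩
  have hbound : N ≤ m := by
    subst hm
    rw [Nat.add_sub_cancel] at h3
    have h4 : (m + 1) * S.card + 1 ≤ N ^ 2 + (m + 1) :=
      le_trans (Nat.add_le_add_right (Nat.mul_le_mul_left _ hC) 1) horb
    by_contra hlt
    nlinarith [Nat.mul_le_mul (Nat.succ_le_of_lt (not_le.1 hlt)) (Nat.succ_le_of_lt (not_le.1 hlt))]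
  -- the congruence
  have hcong : N ^ 2 ≡ 1 [MOD s] := by
    haveI : Fact s.Prime := ⟨hs⟩
    have hord : ∀ g : Subgroup.zpowers τ, ∃ k, g ^ s ^ k = 1 := fun g => by
      refine ⟨1, Subtype.ext ?_⟩
      obtain ⟨k, hk⟩ := g.2
      rw [pow_one, SubgroupClass.coe_pow, ← hk, ← zpow_natCast, zpow_comm, zpow_natCast, hτs, one_zpow]
      rfl
    have h := IsPGroup.card_modEq_card_fixedPoints (G := Subgroup.zpowers τ) hord X
    rw [Nat.card_eq_fintype_card, hN2] at h
    refine h.trans ?_
    have h1 : MulAction.fixedPoints (Subgroup.zpowers τ) X = {((1 : Q) : X)} := by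
      ext x
      simp only [MulAction.mem_fixedPoints, Set.mem_singleton_iff]
      constructor
      · intro hx
        refine hτfree x 1 one_pos hs.one_lt ?_
        rw [pow_one]
        exact hx ⟨τ, Subgroup.mem_zpowers τ⟩
      · rintro rfl ⟨g, hg⟩
        obtain ⟨k, rfl⟩ := hg
        show (τ ^ k) ((1 : Q) : X) = _
        exact Equiv.Perm.zpow_apply_eq_self_of_apply_eq_self
          (show ((φ 1 : Q) : X) = _ by rw [map_one]) k
    rw [h1]
    simp [Nat.ModEq]
  obtain ⟨j, hj⟩ : ∃ j, N ^ 2 = r ^ j := by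
    obtain ⟨k, hk⟩ := IsPGroup.iff_card.1 (hQ.to_quotient Z)
    exact ⟨k, by rw [← hN2, ← Nat.card_eq_fintype_card, hk]⟩
  have hNodd : Odd N := by
    have : Odd (N ^ 2) := hj ▸ ((Fact.out : r.Prime).odd_of_ne_two hr).pow
    exact (Nat.odd_pow_iff two_ne_zero).1 this
  have hdvd : s ∣ (N - 1) * (N + 1) := by
    rw [mul_comm, ← Nat.sq_sub_sq, one_pow]
    exact (Nat.modEq_iff_dvd' (Nat.one_le_pow _ _ (by omega))).1 hcong.symm
  rcases hs.dvd_mul.1 hdvd with h | h
  · have := Nat.le_of_dvd (by omega) h
    omega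
  · have hle := Nat.le_of_dvd (by omega) h
    have hsN : s = N + 1 := by omega
    have hev : Even s := hsN ▸ hNodd.add_one
    have := hs.even_iff.1 hev
    omega

end Nonabelian

/-- Induction form of `exists_fixed_of_normalised`. -/
theorem exists_fixed_aux [IsAlgClosed K] {r : ℕ} [Fact r.Prime] (hr : r ≠ 2) (hrK : (r : K) ≠ 0)
    {s : ℕ} [Fact s.Prime] (hsr : s ≠ r) (hsK : (s : K) ≠ 0) :
    ∀ (n : ℕ) (V : Type v) [AddCommGroup V] [Module K V] [FiniteDimensional K V] (Q : Type w) [Group Q]
      [Finite Q], Nat.card Q + finrank K V ≤ n → IsPGroup r Q →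
      ∀ (σ : Q →* Module.End K V) (φ : MulAut Q) (θ : Module.End K V), θ ^ s = 1 →
        (∀ g, θ * σ g = σ (φ g) * θ) → (∃ g, σ (φ g) ≠ σ g) → ∃ y, y ≠ 0 ∧ θ y = y := by
  classical
  intro n
  induction n with
  | zero =>
    intro V _ _ _ Q _ _ hn
    have : 0 < Nat.card Q := Nat.card_pos
    omega
  | succ n ih =>
  intro V _ _ _ Q _ _ hn hQ σ φ θ hθs hθ hne
  by_contra hcon
  push Not at hcon
  have hfpf : ∀ y, θ y = y → y = 0 := fun y hy => by
    by_contra h
    exact hcon y h hy
  have hs : s.Prime := Fact.out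
  have hrp : r.Prime := Fact.out
  have hintw := intertwine_pow (fun g => σ g) φ θ hθ
  have hσs : ∀ g, σ ((φ ^ s) g) = σ g := fun g => by
    have h := hintw s g
    rwa [hθs, one_mul, mul_one, eq_comm] at h
  -- faithfulness
  have hinj : Function.Injective σ := by
    rw [← MonoidHom.ker_eq_bot_iff]
    by_contra hker
    set R := σ.ker with hR
    have hRφ : R ≤ R.comap φ.toMonoidHom := by
      intro g hg
      rw [hR, Subgroup.mem_comap, MonoidHom.mem_ker]
      rw [hR, MonoidHom.mem_ker] at hg
      have hθu : IsUnit θ := IsUnit.of_pow_eq_one hθs hs.ne_zero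
      have h := hθ g
      rw [hg, mul_one] at h
      exact (hθu.mul_left_inj).1 (h.symm.trans (one_mul θ).symm)
    have hRφ' : R.map φ.toMonoidHom = R :=
      Subgroup.eq_of_le_of_card_ge (Subgroup.map_le_iff_le_comap.2 hRφ)
        (by rw [Subgroup.card_map_of_injective φ.injective])
    let φ' : MulAut (Q ⧸ R) := QuotientGroup.congr R R φ hRφ'
    let σ' : Q ⧸ R →* Module.End K V := QuotientGroup.lift R σ le_rfl
    have hlt : Nat.card (Q ⧸ R) < Nat.card Q := by
      have h1 := Subgroup.card_eq_card_quotient_mul_card_subgroup R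
      have h2 : 1 < Nat.card R := Subgroup.one_lt_card_iff_ne_bot R |>.2 hker
      have h3 : 0 < Nat.card (Q ⧸ R) := Nat.card_pos
      nlinarith
    obtain ⟨g, hg⟩ := hne
    obtain ⟨y, hy, hy'⟩ := ih V (Q ⧸ R) (by omega) (hQ.to_quotient R) σ' φ' θ hθs (fun x => by
      induction x using QuotientGroup.induction_on with | _ a => exact hθ a) ⟨(g : Q ⧸ R), hg⟩
    exact hcon y hy hy'
  -- proper invariant subgroups are fixed
  have hmin : MinInv φ 1 s := by
    intro R hR hRtop g hg
    rw [Nat.sub_self, pow_zero, pow_one]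
    by_contra hgg
    have hRφ : R.map φ.toMonoidHom = R := Subgroup.eq_of_le_of_card_ge
      (Subgroup.map_le_iff_le_comap.2 fun x hx => hR x hx)
      (by rw [Subgroup.card_map_of_injective φ.injective])
    let φ' : MulAut R := (φ.subgroupMap R).trans (MulEquiv.subgroupCongr hRφ)
    have hφ' : ∀ x : R, ((φ' x : R) : Q) = φ x := fun x => rfl
    have hlt : Nat.card R < Nat.card Q := by
      refine lt_of_le_of_ne (Subgroup.card_le_card_group R) fun h => hRtop (Subgroup.eq_top_of_card_eq R h)
    obtain ⟨y, hy, hy'⟩ := ih V R (by omega) (hQ.to_subgroup R) (σ.comp R.subtype) φ' θ hθs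
      (fun x => hθ x) ⟨⟨g, hg⟩, fun h => hgg (hinj h)⟩
    exact hcon y hy hy'
  haveI : Nontrivial Q := by
    obtain ⟨g, hg⟩ := hne
    exact ⟨g, 1, fun h => hg (by subst h; rw [map_one])⟩
  have hφs : φ ^ s ^ 1 = 1 := by
    rw [pow_one]
    exact MulEquiv.ext fun g => hinj (hσs g)
  have hφne : φ ^ s ^ (1 - 1) ≠ 1 := by
    obtain ⟨g, hg⟩ := hne
    rw [Nat.sub_self, pow_zero, pow_one]
    intro h
    exact hg (by rw [h]; rfl)
  haveI : Nontrivial V := by
    obtain ⟨g, hg⟩ := hne
    by_contra h
    rw [not_nontrivial_iff_subsingleton] at h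
    exact hg (LinearMap.ext fun x => Subsingleton.elim _ _)
  -- irreducibility
  have hirr : ∀ W : Submodule K V, (∀ g, ∀ v ∈ W, σ g v ∈ W) → (∀ v ∈ W, θ v ∈ W) → W = ⊥ ∨ W = ⊤ := by
    intro W hW hWθ
    by_contra hc
    push Not at hc
    obtain ⟨hW0, hWtop⟩ := hc
    have hfW : finrank K W < finrank K V := Submodule.finrank_lt hWtop
    have hfQ : finrank K (V ⧸ W) < finrank K V := by
      have h1 := Submodule.finrank_quotient_add_finrank W
      have h2 : 0 < finrank K W := by
        rw [Module.finrank_pos_iff]; exact Submodule.nontrivial_iff_ne_bot.2 hW0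
      omega
    let σW : Q →* Module.End K W :=
      { toFun := fun g => (σ g).restrict (hW g)
        map_one' := LinearMap.ext fun x => Subtype.ext (by simp)
        map_mul' := fun a b => LinearMap.ext fun x => Subtype.ext (by simp) }
    let σV : Q →* Module.End K (V ⧸ W) :=
      { toFun := fun g => W.mapQ W (σ g) (fun x hx => hW g x hx)
        map_one' := Submodule.linearMap_qext _ (LinearMap.ext fun x => by simp)
        map_mul' := fun a b => Submodule.linearMap_qext _ (LinearMap.ext fun x => by simp) }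
    let θW : Module.End K W := θ.restrict hWθ
    let θV : Module.End K (V ⧸ W) := W.mapQ W θ (fun x hx => hWθ x hx)
    have hpowW : ∀ (k : ℕ) (x : W), (((θW ^ k) x : W) : V) = (θ ^ k) x := by
      intro k
      induction k with
      | zero => intro x; rfl
      | succ k ihk =>
        intro x
        rw [pow_succ', pow_succ', Module.End.mul_apply, Module.End.mul_apply, ← ihk]
        rfl
    have hpowV : ∀ (k : ℕ) (x : V), (θV ^ k) (Submodule.Quotient.mk x) = Submodule.Quotient.mk ((θ ^ k) x) := by
      intro k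
      induction k with
      | zero => intro x; rfl
      | succ k ihk =>
        intro x
        rw [pow_succ', pow_succ', Module.End.mul_apply, Module.End.mul_apply, ihk]
        rfl
    by_cases h1 : ∃ g, σW (φ g) ≠ σW g
    · obtain ⟨y, hy, hy'⟩ := ih W Q (by omega) hQ σW φ θW
        (LinearMap.ext fun x => Subtype.ext (by rw [hpowW, hθs]; rfl))
        (fun g => LinearMap.ext fun x => Subtype.ext (LinearMap.congr_fun (hθ g) x)) h1
      exact hcon y (fun h => hy (Subtype.ext h)) (congrArg Subtype.val hy')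
    by_cases h2 : ∃ g, σV (φ g) ≠ σV g
    · obtain ⟨y, hy, hy'⟩ := ih (V ⧸ W) Q (by omega) hQ σV φ θV
        (Submodule.linearMap_qext _ (LinearMap.ext fun x => by
          show (θV ^ s) (Submodule.Quotient.mk x) = Submodule.Quotient.mk x
          rw [hpowV, hθs]; rfl))
        (fun g => Submodule.linearMap_qext _ (LinearMap.ext fun x => congrArg Submodule.Quotient.mk
          (LinearMap.congr_fun (hθ g) x))) h2
      obtain ⟨x, rfl⟩ := Submodule.Quotient.mk_surjective W y
      have hfix : ∀ i : ℕ, Submodule.Quotient.mk ((θ ^ i) x) = (Submodule.Quotient.mk x : V ⧸ W) := by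
        intro i
        rw [← hpowV]
        induction i with
        | zero => rfl
        | succ i ihi => rw [pow_succ, Module.End.mul_apply, hy', ihi]
      obtain ⟨z, hz, hz'⟩ := exists_fixed_of_sum_ne_zero hθs x (fun h => hy (by
        have h3 := congrArg (fun v => (Submodule.Quotient.mk v : V ⧸ W)) h
        simp only [← Submodule.mkQ_apply, map_sum, map_zero] at h3
        simp only [Submodule.mkQ_apply, hfix, Finset.sum_const, Finset.card_range] at h3
        rw [← Nat.cast_smul_eq_nsmul K] at h3
        exact (smul_eq_zero.1 h3).resolve_left hsK))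
      exact hcon z hz hz'
    push Not at h1 h2
    obtain ⟨g, hg⟩ := hne
    apply hg
    set d := g⁻¹ * φ g with hd
    set D := σ d - 1 with hD
    have hDW : ∀ x ∈ W, D x = 0 := fun x hx => by
      have h3 : σW d = 1 := by rw [hd, map_mul, h1, ← map_mul, inv_mul_cancel, map_one]
      rw [hD, LinearMap.sub_apply, Module.End.one_apply, sub_eq_zero]
      exact congrArg Subtype.val (LinearMap.congr_fun h3 ⟨x, hx⟩)
    have hDV : ∀ x, D x ∈ W := fun x => by
      have h3 : σV d = 1 := by rw [hd, map_mul, h2, ← map_mul, inv_mul_cancel, map_one]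
      rw [hD, LinearMap.sub_apply, Module.End.one_apply]
      exact (Submodule.Quotient.eq W).1 (LinearMap.congr_fun h3 (Submodule.Quotient.mk x))
    have hD2 : D * D = 0 := LinearMap.ext fun x => hDW _ (hDV x)
    have hpow : ∀ m : ℕ, σ d ^ m = 1 + (m : K) • D := by
      intro m
      induction m with
      | zero => simp
      | succ m ihm =>
        rw [pow_succ, ihm, show σ d = 1 + D by rw [hD, add_sub_cancel], Nat.cast_succ]
        simp only [mul_add, add_mul, mul_one, one_mul, smul_mul_assoc, hD2, smul_zero, add_zero,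
          add_smul, one_smul]
        abel
    obtain ⟨k, hk⟩ := hQ d
    have h4 := hpow (r ^ k)
    rw [← map_pow, hk, map_one, left_eq_add, Nat.cast_pow] at h4
    have h5 : σ d = 1 := sub_eq_zero.1 ((smul_eq_zero.1 h4).resolve_left (pow_ne_zero k hrK))
    have h6 : σ g * σ d = σ (φ g) := by rw [hd, ← map_mul, mul_inv_cancel_left]
    rw [← h6, h5, mul_one]
  -- fixed elements are central and scalar
  have hfixed : ∀ c, φ c = c → c ∈ Subgroup.center Q := fun c hc =>
    fixed_mem_center hQ hs hsr le_rfl hφs hmin hφne (by rwa [Nat.sub_self, pow_zero, pow_one])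
  by_cases hab : Subgroup.center Q = ⊤
  · have hcommQ : ∀ a b : Q, a * b = b * a := fun a b =>
      (Subgroup.mem_center_iff.1 (hab ▸ Subgroup.mem_top b) a)
    obtain ⟨U, hU0, hUi, hUmin⟩ := exists_minimal_invariant (fun g => σ g)
    haveI : Nontrivial U := Submodule.nontrivial_iff_ne_bot.2 hU0
    have hirrU : ∀ W : Submodule K U, (∀ g, ∀ w ∈ W, (σ g).restrict (hUi g) w ∈ W) → W = ⊥ ∨ W = ⊤ := by
      intro W hW
      rcases hUmin (W.map U.subtype) (Submodule.map_subtype_le U W) (fun g u hu => by
        obtain ⟨x, hx, rfl⟩ := hu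
        exact ⟨(σ g).restrict (hUi g) x, hW g x hx, rfl⟩) with h | h
      · exact Or.inl (Submodule.map_injective_of_injective U.injective_subtype (by rw [h, Submodule.map_bot]))
      · exact Or.inr (Submodule.map_injective_of_injective U.injective_subtype
          (by rw [h, Submodule.map_subtype_top]))
    have hscal : ∀ g, ∃ c : K, (σ g).restrict (hUi g) = c • (1 : Module.End K U) := fun g =>
      exists_scalar (fun a => (σ a).restrict (hUi a)) hirrU fun a => LinearMap.ext fun x => Subtype.ext (by
        show σ g (σ a x) = σ a (σ g x)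
        rw [← Module.End.mul_apply, ← map_mul, hcommQ, map_mul, Module.End.mul_apply])
    choose χ hχ using hscal
    obtain ⟨u, hu⟩ := exists_ne (0 : U)
    have hu' : (u : V) ≠ 0 := fun h => hu (Subtype.ext h)
    have heig : ∀ g, σ g (u : V) = χ g • (u : V) := fun g =>
      congrArg Subtype.val (LinearMap.congr_fun (hχ g) u)
    -- the eigencharacters of the translates
    have heigi : ∀ (i : ℕ) g, σ ((φ ^ i) g) ((θ ^ i) (u : V)) = χ g • (θ ^ i) (u : V) := fun i g => by
      rw [← Module.End.mul_apply, ← hintw i g, Module.End.mul_apply, heig, map_smul]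
    have hnotinv : ¬ ∀ g, χ (φ g) = χ g := by
      intro hinv
      have hone : ∀ g, σ g (u : V) = u := by
        intro g
        obtain ⟨a, ha⟩ := exists_inv_mul_zeta hQ hs hsr le_rfl hφs hmin hφne hcommQ g
        rw [Nat.sub_self, pow_zero, pow_one] at ha
        have h1 : σ a (σ g (u : V)) = σ a (u : V) := by
          rw [← Module.End.mul_apply, ← map_mul, ← ha, mul_inv_cancel_left, heig, hinv, ← heig]
        exact ((Module.End.isUnit_iff _).1 ((Group.isUnit a).map σ)).injective h1
      let F : Submodule K V := ⨅ g, LinearMap.ker (σ g - 1)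
      have hF : ∀ x, x ∈ F ↔ ∀ g, σ g x = x := fun x => by simp [F, sub_eq_zero]
      rcases hirr F (fun g v hv => by rw [(hF v).1 hv g]; exact hv) (fun v hv => (hF _).2 fun g => by
        obtain ⟨a, rfl⟩ := φ.surjective g
        rw [← Module.End.mul_apply, ← hθ, Module.End.mul_apply, (hF v).1 hv a]) with h | h
      · exact hu' (by simpa [h] using (hF (u : V)).2 hone)
      · obtain ⟨g, hg⟩ := hne
        exact hg (LinearMap.ext fun x => by
          have := (hF x).1 (h ▸ Submodule.mem_top)
          rw [this, this])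
    have hli : LinearIndependent K (fun i : Fin s => (θ ^ (i : ℕ)) (u : V)) := by
      refine linearIndependent_of_eigen _ (fun i h => hu' ?_) (fun g => σ g)
        (fun i g => χ ((φ ^ (i : ℕ)).symm g)) (fun i g => ?_) (fun i j hij => ?_)
      · exact ((Module.End.isUnit_iff _).1 ((IsUnit.of_pow_eq_one hθs hs.ne_zero).pow _)).injective
          (by rw [h, map_zero])
      · have h := heigi i ((φ ^ (i : ℕ)).symm g)
        rwa [MulEquiv.apply_symm_apply] at h
      · by_contra hne'
        apply hnotinv
        wlog hlt : (i : ℕ) < j generalizing i j with H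
        · exact H j i (fun g => (hij g).symm) (Ne.symm hne')
            (lt_of_le_of_ne (not_lt.1 hlt) fun h => hne' (Fin.ext h.symm))
        obtain ⟨d, hd⟩ : ∃ d, (j : ℕ) = i + d := ⟨j - i, by omega⟩
        have hd0 : 0 < d ∧ d < s := ⟨by omega, by have := j.2; omega⟩
        have hper : ∀ g, χ ((φ ^ d) g) = χ g := fun g => by
          have h := hij ((φ ^ (j : ℕ)) g)
          rw [MulEquiv.symm_apply_apply, hd, pow_add, MulAut.mul_apply, MulEquiv.symm_apply_apply] at h
          exact h
        have hperk : ∀ k g, χ (((φ ^ d) ^ k) g) = χ g := by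
          intro k
          induction k with
          | zero => intro g; rfl
          | succ k ihk => intro g; rw [pow_succ', MulAut.mul_apply, hper, ihk]
        obtain ⟨k, hk⟩ := exists_pow_gcd (x := φ) (N := s) (i := d) (by rwa [pow_one] at hφs)
          (by rw [(hs.coprime_iff_not_dvd.2 (Nat.not_dvd_of_pos_of_lt hd0.1 hd0.2)).gcd_eq_one]
              exact hs.one_lt)
        rw [(hs.coprime_iff_not_dvd.2 (Nat.not_dvd_of_pos_of_lt hd0.1 hd0.2)).gcd_eq_one, pow_one,
          pow_mul] at hk
        intro g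
        have h := hperk k g
        rwa [hk] at h
    obtain ⟨y, hy, hy'⟩ := exists_fixed_of_sum_ne_zero hθs (u : V) (fun h => by
      rw [Finset.sum_range] at h
      have h1 := Fintype.linearIndependent_iff.1 hli (fun _ => 1) (by simpa using h) ⟨0, hs.pos⟩
      exact one_ne_zero h1)
    exact hcon y hy hy'
  · have hcenfix : ∀ c ∈ Subgroup.center Q, φ c = c := by
      intro c hc
      have h := hmin (Subgroup.center Q) (fun g hg => by
        rw [Subgroup.mem_center_iff] at hg ⊢
        intro a
        obtain ⟨b, rfl⟩ := φ.surjective a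
        rw [← map_mul, ← map_mul, hg b]) hab c hc
      rwa [Nat.sub_self, pow_zero, pow_one] at h
    have hscal : ∀ g ∈ Subgroup.center Q, ∃ c : K, σ g = c • (1 : Module.End K V) := by
      intro g hg
      refine exists_scalar (fun o : Option Q => o.elim θ (fun a => σ a)) (fun W hW =>
        hirr W (fun a => hW (some a)) (hW none)) ?_
      intro o
      cases o with
      | none =>
        show σ g * θ = θ * σ g
        rw [hθ, hcenfix g hg]
      | some a =>
        show σ g * σ a = σ a * σ g
        rw [← map_mul, ← map_mul, Subgroup.mem_center_iff.1 hg a]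
    have hcomm : ∀ a b : Q, ∃ c : K, σ (a * b * a⁻¹ * b⁻¹) = c • (1 : Module.End K V) := by
      intro a b
      refine hscal _ (hfixed _ ?_)
      haveI := hQ.isNilpotent
      have h := hmin (commutator Q) (fun g hg => by
        rw [← Subgroup.Characteristic.fixed (H := commutator Q) inferInstance φ] at hg
        exact hg) (Group.IsSolvable.commutator_lt_top_of_nontrivial Q).ne (a * b * a⁻¹ * b⁻¹)
        (by rw [← commutatorElement_def]
            exact Subgroup.commutator_mem_commutator (Subgroup.mem_top a) (Subgroup.mem_top b))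
      rwa [Nat.sub_self, pow_zero, pow_one] at h
    have hirrσ := irreducible_of_scalar_center σ hinj φ θ (IsUnit.of_pow_eq_one hθs hs.ne_zero) hθ hirr
      hscal hcomm
    refine false_of_irreducible σ hinj hr hQ φ θ hθs hsK hθ hirrσ hcomm ?_ hab hfpf
    intro g i hi his hgi
    refine hfixed g ?_
    -- `φ ^ i` generates
    obtain ⟨k, hk⟩ := exists_pow_gcd (x := φ) (N := s) (i := i) (by rwa [pow_one] at hφs)
      (by rw [(hs.coprime_iff_not_dvd.2 (Nat.not_dvd_of_pos_of_lt hi his)).gcd_eq_one]; exact hs.one_lt)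
    rw [(hs.coprime_iff_not_dvd.2 (Nat.not_dvd_of_pos_of_lt hi his)).gcd_eq_one, pow_one, pow_mul] at hk
    set e := g⁻¹ * (φ ^ i) g with he
    have hefix : φ e = e := hcenfix e hgi
    have heI : (φ ^ i) e = e := by
      have : ∀ m : ℕ, (φ ^ m) e = e := fun m => by
        induction m with
        | zero => rfl
        | succ m ihm => rw [pow_succ', MulAut.mul_apply, ihm, hefix]
      exact this i
    have hj : ∀ j : ℕ, ((φ ^ i) ^ j) g = g * e ^ j := by
      intro j
      induction j with
      | zero => simp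
      | succ j ihj =>
        rw [pow_succ', MulAut.mul_apply, ihj, map_mul, map_pow, heI, pow_succ', ← mul_assoc, he,
          mul_inv_cancel_left]
    have h1 : φ g = g * e ^ k := by rw [← hj, hk]
    have h2 : (φ ^ s ^ (1 - 1)) (g⁻¹ * (φ ^ s ^ (1 - 1)) g) = g⁻¹ * (φ ^ s ^ (1 - 1)) g := by
      rw [Nat.sub_self, pow_zero, pow_one, h1, inv_mul_cancel_left, map_pow, hefix]
    have h3 := fixed_of_mul_fixed hQ hs hsr le_rfl hφs h2
    rwa [Nat.sub_self, pow_zero, pow_one] at h3

/-- **Fixed vectors.** Over an algebraically closed field, an element of prime order `s` normalising an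
`r`-subgroup (`r` odd) which it does not centralise in the representation fixes a nonzero vector. -/
theorem exists_fixed_of_normalised [IsAlgClosed K] {V : Type v} [AddCommGroup V] [Module K V]
    [FiniteDimensional K V] {G : Type w} [Group G] [Finite G] (ρ : G →* Module.End K V) {r : ℕ}
    [Fact r.Prime] (hr : r ≠ 2) (hrK : (r : K) ≠ 0) {s : ℕ} [Fact s.Prime] (hsr : s ≠ r)
    (hsK : (s : K) ≠ 0) {X : Subgroup G} (hX : IsPGroup r X) {g : G}
    (hgX : g ∈ Subgroup.normalizer (X : Set G)) (hgs : g ^ s = 1)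
    (hne : ∃ x ∈ X, ρ (g * x * g⁻¹) ≠ ρ x) : ∃ y, y ≠ 0 ∧ ρ g y = y := by
  have hmem : ∀ x, x ∈ X ↔ g * x * g⁻¹ ∈ X := Subgroup.mem_normalizer_iff.1 hgX
  let φ : MulAut X :=
    { toFun := fun x => ⟨g * x * g⁻¹, (hmem x).1 x.2⟩
      invFun := fun x => ⟨g⁻¹ * x * g, (hmem _).2 (by
        simpa [mul_assoc] using x.2)⟩
      left_inv := fun x => Subtype.ext (by simp [mul_assoc])
      right_inv := fun x => Subtype.ext (by simp [mul_assoc])
      map_mul' := fun a b => Subtype.ext (by simp [mul_assoc]) }
  obtain ⟨x, hx, hxne⟩ := hne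
  refine exists_fixed_aux hr hrK hsr hsK _ V X le_rfl hX (ρ.comp X.subtype) φ (ρ g)
    (by rw [← map_pow, hgs, map_one]) (fun a => ?_) ⟨⟨x, hx⟩, hxne⟩
  show ρ g * ρ a = ρ (g * a * g⁻¹) * ρ g
  rw [← map_mul, ← map_mul, inv_mul_cancel_right]

end CfsgLib.MetacyclicP
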