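import Mathlib
import Cfsg.Agent.Lib.PGroups.Series
import Cfsg.Agent.Lib.ThompsonJ.Replacement
import Cfsg.Agent.Lib.CoprimeAction.Basic
import Cfsg.Agent.Lib.Cores.Basic

/-!
Soft subgroups of `p`-groups: abelian, self-centralising, of index `p` in the normaliser.
-/

set_option autoImplicit false
set_option linter.style.haveILetI false

open scoped commutatorElement

namespace CfsgLib.MetacyclicP

variable {P : Type*} [Group P]

theorem conj_mem_map_iff {H : Subgroup P} {y x : P} :
    x ∈ H.map (MulAut.conj y).toMonoidHom ↔ y⁻¹ * x * y ∈ H := by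
  rw [Subgroup.mem_map_equiv]; simp [MulAut.conj_symm_apply]

theorem centralizer_map_conj (H : Subgroup P) (y : P) :
    Subgroup.centralizer (H.map (MulAut.conj y).toMonoidHom : Set P) =
      (Subgroup.centralizer (H : Set P)).map (MulAut.conj y).toMonoidHom := by
  ext x
  rw [conj_mem_map_iff, Subgroup.mem_centralizer_iff, Subgroup.mem_centralizer_iff]
  constructor
  · intro h a ha
    have h1 := congrArg (fun t => y⁻¹ * t * y) (h (y * a * y⁻¹) ⟨a, ha, rfl⟩)
    simpa [mul_assoc] using h1
  · rintro h _ ⟨a, ha, rfl⟩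
    have h1 := congrArg (fun t => y * t * y⁻¹) (h a ha)
    simpa [mul_assoc, MulAut.conj_apply] using h1

theorem normalizer_le_normalizer_inf_centralizer (H : Subgroup P) :
    Subgroup.normalizer (H : Set P) ≤
      Subgroup.normalizer ((H ⊓ Subgroup.centralizer (H : Set P) : Subgroup P) : Set P) := by
  intro g hg
  have e : H.map (MulAut.conj g).toMonoidHom = H := by
    ext x
    rw [conj_mem_map_iff]
    exact (Subgroup.mem_normalizer_iff''.1 hg x).symm
  refine Subgroup.mem_normalizer_iff''.2 fun x => ?_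
  rw [← conj_mem_map_iff, Subgroup.map_inf _ _ _ (MulEquiv.injective _), ← centralizer_map_conj, e]

/-- In a `p`-group a proper subgroup grows in its normaliser. -/
theorem prime_mul_card_le_inf_normalizer [Finite P] {p : ℕ} [Fact p.Prime] (hP : IsPGroup p P)
    {A B : Subgroup P} (h : A < B) :
    p * Nat.card A ≤ Nat.card (B ⊓ Subgroup.normalizer (A : Set P) : Subgroup P) := by
  refine CfsgLib.PGroups.prime_mul_card_le hP ?_
  haveI := (hP.to_subgroup B).isNilpotent
  have hlt : A.subgroupOf B < ⊤ :=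
    lt_top_iff_ne_top.mpr fun e => h.not_ge (Subgroup.subgroupOf_eq_top.mp e)
  obtain ⟨u, hu, hu'⟩ := SetLike.exists_of_lt (Group.normalizerCondition_of_isNilpotent _ hlt)
  refine lt_of_le_not_ge (le_inf h.le Subgroup.le_normalizer) fun hle => hu' ?_
  rw [Subgroup.mem_subgroupOf]
  refine hle ⟨u.2, CfsgLib.CoprimeAction.mem_normalizer_of_conj_mem fun x hx => ?_⟩
  exact (Subgroup.mem_normalizer_iff.mp hu ⟨x, h.le hx⟩).mp hx

/-- If the normaliser has index `p` for everything below `K`, then overgroups of `E` in `K` form a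
chain. -/
theorem chain_below [Finite P] {p : ℕ} [Fact p.Prime] (hP : IsPGroup p P) {E K : Subgroup P}
    (h : ∀ C : Subgroup P, E ≤ C → C < K → Nat.card (Subgroup.normalizer (C : Set P)) = p * Nat.card C)
    {A B : Subgroup P} (hA : E ≤ A) (hB : E ≤ B) (hAK : A ≤ K) (hBK : B ≤ K) : A ≤ B ∨ B ≤ A := by
  by_contra hne
  push Not at hne
  set C := A ⊓ B with hC
  have hCA : C < A := lt_of_le_not_ge inf_le_left fun e => hne.1 (e.trans inf_le_right)
  have hCB : C < B := lt_of_le_not_ge inf_le_right fun e => hne.2 (e.trans inf_le_left)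
  have hn := h C (le_inf hA hB) (hCA.trans_le hAK)
  have hin : ∀ D : Subgroup P, C < D → Subgroup.normalizer (C : Set P) ≤ D := by
    intro D hD
    have h1 := prime_mul_card_le_inf_normalizer hP hD
    rw [← hn] at h1
    exact (Subgroup.eq_of_le_of_card_ge inf_le_right h1).ge.trans inf_le_left
  have h2 : Nat.card (Subgroup.normalizer (C : Set P)) ≤ Nat.card C :=
    Subgroup.card_le_of_le (le_inf (hin A hCA) (hin B hCB))
  rw [hn] at h2
  have h3 := (Fact.out : p.Prime).one_lt
  have h4 := Nat.card_pos (α := C)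
  nlinarith

/-- A surjection with kernel the centre lowers the class by one. -/
theorem nilpotencyClass_eq_succ_of_ker_eq_center {K Q : Type*} [Group K] [Group Q] [Group.IsNilpotent K]
    [Nontrivial K] (f : K →* Q) (hf : Function.Surjective f) (hker : f.ker = Subgroup.center K) :
    Group.nilpotencyClass K = Group.nilpotencyClass Q + 1 := by
  haveI : Group.IsNilpotent Q := Group.nilpotent_of_surjective f hf
  refine le_antisymm (Group.nilpotencyClass_le_of_ker_le_center f hker.le) ?_
  rw [Group.nilpotencyClass_eq_quotient_center_plus_one (G := K)]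
  have e : K ⧸ Subgroup.center K ≃* Q :=
    (QuotientGroup.quotientMulEquivOfEq hker.symm).trans (QuotientGroup.quotientKerEquivOfSurjective f hf)
  exact Nat.add_le_add_right (Group.nilpotencyClass_le_of_surjective e.toMonoidHom e.surjective) 1

universe u

set_option maxHeartbeats 1600000 in
theorem soft_subgroup_aux {p : ℕ} [hp : Fact p.Prime] : ∀ (m : ℕ) (P : Type u) [Group P] [Finite P],
    Nat.card P ≤ m → IsPGroup p P → ∀ E : Subgroup P, IsMulCommutative E →
    Subgroup.centralizer (E : Set P) ≤ E → Nat.card (Subgroup.normalizer (E : Set P)) = p * Nat.card E →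
    p ^ 2 * Nat.card E ≤ Nat.card P →
    ∀ K : Subgroup P, E ≤ K → K ≠ ⊤ → Nat.card (Subgroup.normalizer (K : Set P)) = p * Nat.card K ∧
      ∀ i : ℕ, Nat.card K = p ^ i * Nat.card E → Group.nilpotencyClass K = i + 1 := by
  intro m
  induction m with
  | zero => intro P _ _ h; have := Nat.card_pos (α := P); omega
  | succ m ihm =>
  intro P _ _ hm hP E hEab hC hNE hidx
  classical
  have hp2 := hp.out.two_le
  have hEpos : 0 < Nat.card E := Nat.card_pos
  have hEcomm : ∀ a ∈ E, ∀ b ∈ E, a * b = b * a := fun a ha b hb =>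
    congrArg Subtype.val (hEab.1.comm ⟨a, ha⟩ ⟨b, hb⟩)
  set N1 := Subgroup.normalizer (E : Set P) with hN1
  have hEN : E ≤ N1 := Subgroup.le_normalizer
  have hN1top : N1 ≠ ⊤ := fun e => by
    rw [e, Subgroup.card_top] at hNE
    rw [hNE] at hidx
    have := Nat.le_of_mul_le_mul_right hidx hEpos
    nlinarith
  have hEN' : E < N1 := lt_of_le_of_ne hEN fun e => by
    rw [← e] at hNE
    nlinarith
  have hcentcard : ∀ X : Subgroup P, E < X → p * Nat.card E ≤ Nat.card X := fun X hX =>
    CfsgLib.PGroups.prime_mul_card_le hP hX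
  set Z1 := N1 ⊓ Subgroup.centralizer (N1 : Set P) with hZ1
  have hZ1E : Z1 ≤ E := fun x hx =>
    hC (Subgroup.centralizer_le (show (E : Set P) ⊆ N1 from hEN) hx.2)
  -- a second abelian maximal subgroup of `N1`
  have hpair : ∀ X : Subgroup P, X ≤ N1 → Nat.card X = Nat.card E → X ≠ E →
      (∀ a ∈ X, ∀ b ∈ X, a * b = b * a) → Subgroup.centralizer (X : Set P) ≤ X →
      E ⊔ X = N1 ∧ E ⊓ X = Z1 ∧ N1 ≤ Subgroup.normalizer (X : Set P) := by
    intro X hX hcard hne hab hCX
    have hlt : E < E ⊔ X := lt_of_le_of_ne le_sup_left fun e =>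
      hne (Subgroup.eq_of_le_of_card_ge (sup_eq_left.1 e.symm) hcard.ge)
    have hsup : E ⊔ X = N1 :=
      Subgroup.eq_of_le_of_card_ge (sup_le hEN hX) (hNE ▸ hcentcard _ hlt)
    refine ⟨hsup, le_antisymm ?_ (le_inf hZ1E ?_), ?_⟩
    · intro x hx
      refine ⟨hEN hx.1, ?_⟩
      have hle : N1 ≤ Subgroup.centralizer ({x} : Set P) := hsup ▸ sup_le
        (fun a ha => Subgroup.mem_centralizer_singleton_iff.2 (hEcomm a ha x hx.1))
        (fun a ha => Subgroup.mem_centralizer_singleton_iff.2 (hab a ha x hx.2))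
      exact Subgroup.mem_centralizer_iff.2 fun a ha => Subgroup.mem_centralizer_singleton_iff.1 (hle ha)
    · intro x hx
      exact hCX (Subgroup.centralizer_le (show (X : Set P) ⊆ N1 from hX) hx.2)
    · have hXlt : X < N1 := lt_of_le_of_ne hX fun e => by
        rw [e] at hcard; rw [hcard] at hNE; nlinarith
      have h1 := prime_mul_card_le_inf_normalizer hP hXlt
      rw [hcard, ← hNE] at h1
      exact (Subgroup.eq_of_le_of_card_ge inf_le_left h1).ge.trans inf_le_right
  have hconjE : ∀ g ∈ Subgroup.normalizer (N1 : Set P),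
      E.map (MulAut.conj g).toMonoidHom ≤ N1 ∧ Nat.card (E.map (MulAut.conj g).toMonoidHom) = Nat.card E ∧
      (∀ a ∈ E.map (MulAut.conj g).toMonoidHom, ∀ b ∈ E.map (MulAut.conj g).toMonoidHom, a * b = b * a) ∧
      Subgroup.centralizer (E.map (MulAut.conj g).toMonoidHom : Set P) ≤ E.map (MulAut.conj g).toMonoidHom := by
    intro g hg
    refine ⟨?_, Subgroup.card_map_of_injective (MulEquiv.injective _), ?_, ?_⟩
    · rintro _ ⟨x, hx, rfl⟩
      exact (Subgroup.mem_normalizer_iff.1 hg x).1 (hEN hx)
    · rintro _ ⟨a, ha, rfl⟩ _ ⟨b, hb, rfl⟩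
      rw [← map_mul, hEcomm a ha b hb, map_mul]
    · rw [centralizer_map_conj]; exact Subgroup.map_mono hC
  obtain ⟨g0, hg0, hg0N⟩ : ∃ g ∈ Subgroup.normalizer (N1 : Set P), g ∉ N1 := by
    haveI := hP.isNilpotent
    exact SetLike.exists_of_lt (Group.normalizerCondition_of_isNilpotent _ (lt_top_iff_ne_top.2 hN1top))
  set E' := E.map (MulAut.conj g0).toMonoidHom with hE'
  have hfix : ∀ g : P, E.map (MulAut.conj g).toMonoidHom = E → g ∈ N1 := fun g e =>
    Subgroup.mem_normalizer_iff''.2 fun x => by rw [← conj_mem_map_iff, e]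
  have hE'ne : E' ≠ E := fun e => hg0N (hfix _ e)
  obtain ⟨hE'N, hE'card, hE'ab, hE'C⟩ := hconjE g0 hg0
  obtain ⟨hsup, hinf, hE'n⟩ := hpair E' hE'N hE'card hE'ne hE'ab hE'C
  have hcardN : Nat.card E = p * Nat.card Z1 := by
    have h1 := CfsgLib.ThompsonJ.card_sup_mul_card_inf E E' (hEN.trans hE'n)
    rw [hsup, hinf, hE'card, hNE, mul_assoc] at h1
    have := Nat.eq_of_mul_eq_mul_left hEpos (show Nat.card E * (p * Nat.card Z1) = Nat.card E * Nat.card E by
      linarith [h1])
    exact this.symm
  have hZpos : 0 < Nat.card Z1 := Nat.card_pos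
  have hprod : ∀ n ∈ N1, ∃ e ∈ E, ∃ f ∈ E', n = e * f := by
    intro n hn
    rw [← hsup] at hn
    open scoped Pointwise in
    have h1 : n ∈ (E : Set P) * (E' : Set P) := by
      rw [← Subgroup.coe_mul_of_left_le_normalizer_right _ _ (hEN.trans hE'n)]; exact hn
    obtain ⟨e, he, f, hf, hef⟩ := h1
    exact ⟨e, he, f, hf, hef.symm⟩
  set T := ⁅E, N1⁆ with hT
  have hTE : T ≤ E := Subgroup.commutator_le.2 fun e he n hn => by
    rw [commutatorElement_def, mul_assoc e n, mul_assoc e]
    exact mul_mem he ((Subgroup.mem_normalizer_iff.1 hn _).1 (inv_mem he))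
  have hTZ1 : T ≤ Z1 := by
    refine hinf ▸ le_inf hTE (Subgroup.commutator_le.2 fun a ha n hn => ?_)
    obtain ⟨e, he, f, hf, rfl⟩ := hprod n hn
    have e1 : ⁅a, e * f⁆ = e * (a * f * a⁻¹ * f⁻¹) * e⁻¹ := by
      rw [commutatorElement_def]
      calc a * (e * f) * a⁻¹ * (e * f)⁻¹ = (a * e) * f * a⁻¹ * f⁻¹ * e⁻¹ := by group
        _ = (e * a) * f * a⁻¹ * f⁻¹ * e⁻¹ := by rw [hEcomm a ha e he]
        _ = e * (a * f * a⁻¹ * f⁻¹) * e⁻¹ := by group
    rw [e1]
    refine (Subgroup.mem_normalizer_iff.1 (hE'n (hEN he)) _).1 (mul_mem ?_ (inv_mem hf))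
    exact (Subgroup.mem_normalizer_iff.1 (hE'n (hEN ha)) f).1 hf
  -- `|N(N1) : N1| = p`
  have hNN : Nat.card (Subgroup.normalizer (N1 : Set P)) = p * Nat.card N1 := by
    have hlt : N1 < Subgroup.normalizer (N1 : Set P) :=
      lt_of_le_of_ne Subgroup.le_normalizer fun e => hg0N (e ▸ hg0)
    refine le_antisymm ?_ (CfsgLib.PGroups.prime_mul_card_le hP hlt)
    haveI := Fintype.ofFinite P
    set R := Subgroup.normalizer (N1 : Set P) with hR
    set F : R → Subgroup P := fun g => E.map (MulAut.conj (g : P)).toMonoidHom with hF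
    set S := Finset.univ.image F with hS
    have hcard1 : Nat.card R ≤ S.card * Nat.card N1 := by
      rw [Nat.card_eq_fintype_card, ← Finset.card_univ]
      refine (Finset.card_le_mul_card_image (f := F) _ (Nat.card N1) fun X hX => ?_).trans_eq (mul_comm _ _)
      obtain ⟨g, -, rfl⟩ := Finset.mem_image.1 hX
      rw [Nat.card_eq_fintype_card, ← Finset.card_univ (α := N1)]
      refine Finset.card_le_card_of_injOn (fun h => if hh : (g : P)⁻¹ * h ∈ N1 then ⟨_, hh⟩ else 1)
        (fun _ _ => Finset.mem_univ _) fun a ha b hb hab => ?_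
      rw [Finset.mem_coe, Finset.mem_filter] at ha hb
      have key : ∀ a : R, F a = F g → (g : P)⁻¹ * a ∈ N1 := fun a e => hfix _ (by
        ext x
        have := congrArg (fun X : Subgroup P => (g : P) * x * (g : P)⁻¹ ∈ X) e
        simp only [hF, conj_mem_map_iff] at this
        rw [conj_mem_map_iff, mul_inv_rev, inv_inv]
        simpa [mul_assoc] using this)
      simp only [dif_pos (key a ha.2), dif_pos (key b hb.2), Subtype.mk.injEq] at hab
      exact Subtype.ext (mul_left_cancel hab)
    have hcount : S.card ≤ p := by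
      have hin : ∀ X ∈ S, ∀ Y ∈ S, X ≠ Y → X ⊓ Y ≤ Z1 := by
        intro X hX Y hY hXY
        obtain ⟨a, -, rfl⟩ := Finset.mem_image.1 hX
        obtain ⟨b, -, rfl⟩ := Finset.mem_image.1 hY
        have hZle : ∀ c : R, Z1 ≤ F c := fun c => by
          obtain ⟨h1, h2, h3, h4⟩ := hconjE c c.2
          exact fun x hx => h4 (Subgroup.centralizer_le (show ((F c : Subgroup P) : Set P) ⊆ N1 from h1) hx.2)
        have hlt2 : F a ⊓ F b < F a := lt_of_le_of_ne inf_le_left fun e => hXY (by
          refine Subgroup.eq_of_le_of_card_ge (inf_eq_left.1 e) ?_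
          rw [(hconjE a a.2).2.1, (hconjE b b.2).2.1])
        have h1 := CfsgLib.PGroups.prime_mul_card_le hP hlt2
        rw [(hconjE a a.2).2.1, hcardN] at h1
        exact (Subgroup.eq_of_le_of_card_ge (le_inf (hZle a) (hZle b))
          (Nat.le_of_mul_le_mul_left h1 hp.out.pos)).ge
      let D : Subgroup P → Finset P := fun X => Finset.univ.filter fun x => x ∈ X ∧ x ∉ Z1
      have hD : ∀ X ∈ S, (D X).card + Nat.card Z1 = Nat.card E ∧ D X ⊆ D N1 := by
        intro X hX
        obtain ⟨a, -, rfl⟩ := Finset.mem_image.1 hX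
        obtain ⟨h1, h2, h3, h4⟩ := hconjE a a.2
        refine ⟨?_, fun x hx => ?_⟩
        · rw [← h2, Nat.card_eq_fintype_card, Nat.card_eq_fintype_card, Fintype.card_subtype, Fintype.card_subtype,
            ← Finset.card_union_of_disjoint (Finset.disjoint_left.2 fun x hx hx' =>
              (Finset.mem_filter.1 hx).2.2 (Finset.mem_filter.1 hx').2)]
          congr 1
          ext x
          simp only [D, Finset.mem_union, Finset.mem_filter, Finset.mem_univ, true_and]
          have hzx : x ∈ Z1 → x ∈ F a := fun hx =>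
            h4 (Subgroup.centralizer_le (show ((F a : Subgroup P) : Set P) ⊆ N1 from h1) hx.2)
          tauto
        · simp only [D, Finset.mem_filter, Finset.mem_univ, true_and] at hx ⊢
          exact ⟨h1 hx.1, hx.2⟩
      have hsum : (S.biUnion D).card = S.card * (Nat.card E - Nat.card Z1) := by
        rw [Finset.card_biUnion, Finset.sum_const_nat fun X hX => ?_]
        · have := (hD X hX).1; omega
        · intro X hX Y hY hXY
          refine Finset.disjoint_left.2 fun x hx hy => ?_
          simp only [D, Finset.mem_filter, Finset.mem_univ, true_and] at hx hy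
          exact hx.2 (hin X hX Y hY hXY ⟨hx.1, hy.1⟩)
      have hN1D : (D N1).card + Nat.card Z1 = Nat.card N1 := by
        rw [Nat.card_eq_fintype_card, Nat.card_eq_fintype_card, Fintype.card_subtype, Fintype.card_subtype,
            ← Finset.card_union_of_disjoint (Finset.disjoint_left.2 fun x hx hx' =>
              (Finset.mem_filter.1 hx).2.2 (Finset.mem_filter.1 hx').2)]
        congr 1
        ext x
        simp only [D, Finset.mem_union, Finset.mem_filter, Finset.mem_univ, true_and]
        have hzx : x ∈ Z1 → x ∈ N1 := fun hx => hx.1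
        by_cases hx : x ∈ Z1 <;> simp [hx, hzx]
      have hle := Finset.card_le_card (Finset.biUnion_subset.2 fun X hX => (hD X hX).2 : S.biUnion D ⊆ D N1)
      rw [hsum] at hle
      have hbig : S.card * ((p - 1) * Nat.card Z1) + Nat.card Z1 ≤ p * p * Nat.card Z1 := by
        have e : (p - 1) * Nat.card Z1 = Nat.card E - Nat.card Z1 := by rw [hcardN, Nat.sub_mul, one_mul]
        rw [e, mul_assoc, ← hcardN, ← hNE, ← hN1D]
        omega
      -- orbit length is a power of `p`
      have hple : S.card ≤ p + 1 := by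
        obtain ⟨q, rfl⟩ : ∃ q, p = q + 1 := ⟨p - 1, by omega⟩
        rw [Nat.add_sub_cancel] at hbig
        have : S.card * q + 1 ≤ (q + 1) * (q + 1) := by
          refine Nat.le_of_mul_le_mul_right (by rw [add_mul, one_mul, mul_assoc]; exact hbig) hZpos
        by_contra h
        push Not at h
        nlinarith
      have hpow : ∃ j, S.card = p ^ j := by
        have h1 : S.card = Nat.card (R ⧸ N1.subgroupOf R) := by
          have hset : ∀ a b : R, F a = F b ↔ (QuotientGroup.mk a : R ⧸ N1.subgroupOf R) = QuotientGroup.mk b := by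
            intro a b
            rw [QuotientGroup.eq, Subgroup.mem_subgroupOf, Subgroup.coe_mul, Subgroup.coe_inv]
            constructor
            · intro e
              refine hfix _ ?_
              ext x
              have := congrArg (fun X : Subgroup P => (a : P) * x * (a : P)⁻¹ ∈ X) e
              simp only [hF, conj_mem_map_iff] at this
              rw [conj_mem_map_iff, mul_inv_rev, inv_inv]
              simpa [mul_assoc] using this.symm
            · intro hn
              ext x
              simp only [hF, conj_mem_map_iff]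
              have := Subgroup.mem_normalizer_iff''.1 hn ((a : P)⁻¹ * x * a)
              simpa [mul_assoc] using this
          rw [Nat.card_eq_fintype_card, ← Finset.card_univ]
          refine Finset.card_bij (fun X hX => QuotientGroup.mk (Finset.mem_image.1 hX).choose)
            (fun _ _ => Finset.mem_univ _) (fun X hX Y hY e => ?_) fun q _ => ?_
          · rw [← (Finset.mem_image.1 hX).choose_spec.2, ← (Finset.mem_image.1 hY).choose_spec.2]
            exact (hset _ _).2 e
          · obtain ⟨r, rfl⟩ := QuotientGroup.mk_surjective q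
            refine ⟨F r, Finset.mem_image.2 ⟨r, Finset.mem_univ _, rfl⟩, (hset _ _).1 ?_⟩
            exact (Finset.mem_image.1 (Finset.mem_image.2 ⟨r, Finset.mem_univ _, rfl⟩ : F r ∈ S)).choose_spec.2
        rw [h1]
        exact IsPGroup.index (hP.to_subgroup R) _
      obtain ⟨j, hj⟩ := hpow
      rcases j with - | - | j
      · rw [hj, pow_zero]; omega
      · rw [hj, zero_add, pow_one]
      · exfalso
        have : p * p ≤ p ^ (j + 1 + 1) := by
          rw [← pow_two]; exact Nat.pow_le_pow_right hp.out.pos (by omega)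
        nlinarith
    exact hcard1.trans (Nat.mul_le_mul_right _ hcount)
  -- induction on the overgroup
  have main : ∀ (c : ℕ) (K : Subgroup P), Nat.card K = c → E ≤ K → K ≠ ⊤ →
      (Nat.card (Subgroup.normalizer (K : Set P)) = p * Nat.card K ∧
      ∀ i : ℕ, Nat.card K = p ^ i * Nat.card E → Group.nilpotencyClass K = i + 1) ∧
      T ≤ Subgroup.centralizer (K : Set P) := by
    intro c
    induction c using Nat.strong_induction_on with
    | _ c ihc =>
    intro K hKc hEK hKtop
    have hbelow : ∀ L : Subgroup P, E ≤ L → L < K →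
        Nat.card (Subgroup.normalizer (L : Set P)) = p * Nat.card L := fun L hL hLK =>
      (ihc (Nat.card L) (hKc ▸ lt_of_le_of_ne (Subgroup.card_le_of_le hLK.le)
        fun e => hLK.ne (Subgroup.eq_of_le_of_card_ge hLK.le e.ge)) L rfl hL
        fun e => hKtop (top_le_iff.1 (e ▸ hLK.le))).1.1
    haveI hKnil : Group.IsNilpotent K := (hP.to_subgroup K).isNilpotent
    rcases hEK.eq_or_lt with rfl | hEK'
    · -- `K = E`
      refine ⟨⟨hNE, fun i hi => ?_⟩, fun t ht => Subgroup.mem_centralizer_iff.2 fun a ha => hEcomm a ha t (hTE ht)⟩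
      have hi0 : i = 0 := by
        rcases i with - | i
        · rfl
        · have h1 : p ^ (i + 1) = 1 := (Nat.mul_eq_right hEpos.ne').1 hi.symm
          have := Nat.one_lt_pow (n := i + 1) (by omega) hp.out.one_lt
          omega
      subst hi0
      refine le_antisymm ((Group.IsNilpotent.nilpotencyClass_le_one_iff).2 hEab) ?_
      by_contra h0
      push Not at h0
      haveI hs : Subsingleton E := Group.nilpotencyClass_zero_iff_subsingleton.1 (Nat.lt_one_iff.1 h0)
      have : Subgroup.centralizer (E : Set P) = ⊤ := by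
        refine top_le_iff.1 fun x _ => Subgroup.mem_centralizer_iff.2 fun a ha => ?_
        have : a = 1 := congrArg Subtype.val (Subsingleton.elim (⟨a, ha⟩ : E) 1)
        rw [this, one_mul, mul_one]
      exact hN1top (top_le_iff.1 ((this.ge.trans hC).trans hEN))
    have hN1K : N1 ≤ K := by
      have h1 := prime_mul_card_le_inf_normalizer hP hEK'
      rw [← hNE] at h1
      exact (Subgroup.eq_of_le_of_card_ge inf_le_right h1).ge.trans inf_le_left
    rcases hN1K.eq_or_lt with rfl | hN1K'
    · -- `K = N1`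
      refine ⟨⟨hNN, fun i hi => ?_⟩, fun t ht => (hTZ1 ht).2⟩
      have hi1 : i = 1 := by
        have h1 : p ^ i = p ^ 1 := by
          rw [pow_one]; exact (Nat.eq_of_mul_eq_mul_right hEpos (hNE.symm.trans hi)).symm
        exact Nat.pow_right_injective hp.out.two_le h1
      subst hi1
      refine le_antisymm ?_ ?_
      · have hc : Nat.card (N1 ⧸ Subgroup.center N1) = p ^ 2 := by
          have h1 := Subgroup.card_eq_card_quotient_mul_card_subgroup (Subgroup.center N1)
          have e : (Subgroup.center N1).map N1.subtype = Z1 := by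
            ext x
            constructor
            · rintro ⟨y, hy, rfl⟩
              exact ⟨y.2, Subgroup.mem_centralizer_iff.2 fun a ha =>
                congrArg Subtype.val (Subgroup.mem_center_iff.1 hy ⟨a, ha⟩)⟩
            · rintro ⟨hx, hxc⟩
              exact ⟨⟨x, hx⟩, Subgroup.mem_center_iff.2 fun a => Subtype.ext (Subgroup.mem_centralizer_iff.1 hxc a a.2), rfl⟩
          have e2 : Nat.card (Subgroup.center N1) = Nat.card Z1 := by
            rw [← e, Subgroup.card_map_of_injective N1.subtype_injective]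
          rw [e2, hNE, hcardN, ← mul_assoc, ← pow_two] at h1
          exact (Nat.eq_of_mul_eq_mul_right hZpos h1).symm
        have h2 := Group.nilpotencyClass_le_of_ker_le_center (QuotientGroup.mk' (Subgroup.center N1))
          (QuotientGroup.ker_mk' _).le
        have h3 : Group.nilpotencyClass (N1 ⧸ Subgroup.center N1) ≤ 1 :=
          Group.IsNilpotent.nilpotencyClass_le_one_iff.2 ⟨⟨IsPGroup.commutative_of_card_eq_prime_sq hc⟩⟩
        omega
      · by_contra h0
        push Not at h0
        have hab := Group.IsNilpotent.nilpotencyClass_le_one_iff.1 (Nat.lt_succ_iff.1 h0)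
        have hle : N1 ≤ E := le_trans (fun x hx => Subgroup.mem_centralizer_iff.2 fun a ha =>
          congrArg Subtype.val (hab.1.comm ⟨a, hEN ha⟩ ⟨x, hx⟩)) hC
        exact hEN'.not_ge hle
    -- `N1 < K`
    obtain ⟨M, hEM, hMmax⟩ := (Finite.exists_le_maximal
      (p := fun L : Subgroup P => E ≤ L ∧ L < K) ⟨le_rfl, hEK'⟩)
    obtain ⟨⟨-, hMK⟩, hMmax⟩ := hMmax
    have hN1M : N1 ≤ M := by
      rcases chain_below hP hbelow hEN hEM hN1K hMK.le with h | h
      · exact h
      · exact hMmax ⟨hEN, hN1K'⟩ h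
    have hMtop : M ≠ ⊤ := fun e => hKtop (top_le_iff.1 (e ▸ hMK.le))
    have hMlt : Nat.card M < c := hKc ▸ lt_of_le_of_ne (Subgroup.card_le_of_le hMK.le)
      fun e => hMK.ne (Subgroup.eq_of_le_of_card_ge hMK.le e.ge)
    obtain ⟨⟨hNM, -⟩, hTM⟩ := ihc _ hMlt M rfl hEM hMtop
    have hKNM : Subgroup.normalizer (M : Set P) = K := by
      have h1 := prime_mul_card_le_inf_normalizer hP hMK
      rw [← hNM] at h1
      have hle : Subgroup.normalizer (M : Set P) ≤ K :=
        (Subgroup.eq_of_le_of_card_ge inf_le_right h1).ge.trans inf_le_left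
      by_contra hne
      have hlt : Subgroup.normalizer (M : Set P) < K := lt_of_le_of_ne hle hne
      have h2 := Subgroup.card_le_of_le (hMmax ⟨hEM.trans Subgroup.le_normalizer, hlt⟩ Subgroup.le_normalizer)
      rw [hNM] at h2
      have := Nat.card_pos (α := M)
      nlinarith
    have hKM : Nat.card K = p * Nat.card M := hKNM ▸ hNM
    have hKlt : K < Subgroup.normalizer (K : Set P) := by
      haveI := hP.isNilpotent
      exact Group.normalizerCondition_of_isNilpotent _ (lt_top_iff_ne_top.2 hKtop)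
    obtain ⟨y, hy, hyK⟩ := SetLike.exists_of_lt hKlt
    set M' := M.map (MulAut.conj y).toMonoidHom with hM'
    have hM'K : M' ≤ K := by
      rintro _ ⟨x, hx, rfl⟩; exact (Subgroup.mem_normalizer_iff.1 hy x).1 (hMK.le hx)
    have hM'card : Nat.card M' = Nat.card M := Subgroup.card_map_of_injective (MulEquiv.injective _)
    have hM'ne : M' ≠ M := fun e => hyK (hKNM ▸ Subgroup.mem_normalizer_iff''.2 fun x => by
      rw [← conj_mem_map_iff, ← hM', e])
    have hEM' : ¬ E ≤ M' := fun h => by
      rcases chain_below hP hbelow h hEM hM'K hMK.le with h' | h'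
      · exact hM'ne (Subgroup.eq_of_le_of_card_ge h' hM'card.ge)
      · exact hM'ne (Subgroup.eq_of_le_of_card_ge h' hM'card.le).symm
    have hKnM' : K ≤ Subgroup.normalizer (M' : Set P) := by
      intro k hk
      have h1 : y⁻¹ * k * y ∈ Subgroup.normalizer (M : Set P) :=
        hKNM.ge ((Subgroup.mem_normalizer_iff''.1 hy k).1 hk)
      refine Subgroup.mem_normalizer_iff.2 fun x => ?_
      rw [hM', conj_mem_map_iff, conj_mem_map_iff, Subgroup.mem_normalizer_iff.1 h1 (y⁻¹ * x * y)]
      simp [mul_assoc]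
    have hEM'K : E ⊔ M' = K := by
      refine Subgroup.eq_of_le_of_card_ge (sup_le hEK hM'K) ?_
      rw [hKM, ← hM'card]
      exact CfsgLib.PGroups.prime_mul_card_le hP (lt_of_le_of_ne le_sup_right fun e => hEM' (le_sup_left.trans e.ge))
    set Z' := M' ⊓ Subgroup.centralizer (M' : Set P) with hZ'
    have hKnZ' : K ≤ Subgroup.normalizer (Z' : Set P) :=
      hKnM'.trans (normalizer_le_normalizer_inf_centralizer M')
    have hTK : T ≤ Subgroup.centralizer (K : Set P) := by
      rw [Subgroup.le_centralizer_iff, ← hEM'K]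
      refine sup_le (Subgroup.le_centralizer_iff.1 fun t ht =>
        Subgroup.mem_centralizer_iff.2 fun a ha => hEcomm a ha t (hTE ht)) (Subgroup.le_centralizer_iff.1 ?_)
      by_cases hZE : Z' ≤ E
      · have hZK : Z' ≤ Subgroup.centralizer (M : Set P) := by
          refine le_trans ?_ (Subgroup.centralizer_le (show (M : Set P) ⊆ K from hMK.le))
          rw [Subgroup.le_centralizer_iff, ← hEM'K]
          exact sup_le (Subgroup.le_centralizer_iff.1 fun z hz =>
            Subgroup.mem_centralizer_iff.2 fun a ha => hEcomm a ha z (hZE hz))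
            (Subgroup.le_centralizer_iff.1 inf_le_right)
        have hcz : Nat.card Z' = Nat.card (M ⊓ Subgroup.centralizer (M : Set P) : Subgroup P) := by
          rw [hZ', hM', centralizer_map_conj, ← Subgroup.map_inf _ _ _ (MulEquiv.injective _),
            Subgroup.card_map_of_injective (MulEquiv.injective _)]
        have heq := Subgroup.eq_of_le_of_card_ge (le_inf (hZE.trans hEM) hZK) hcz.ge
        exact (le_inf (hTE.trans hEM) hTM).trans (heq.ge.trans inf_le_right)
      · have hlt : E < E ⊔ Z' := lt_of_le_of_ne le_sup_left fun e => hZE (le_sup_right.trans e.ge)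
        have hN1A : N1 ≤ E ⊔ Z' := by
          have h1 := prime_mul_card_le_inf_normalizer hP hlt
          rw [← hNE] at h1
          exact (Subgroup.eq_of_le_of_card_ge inf_le_right h1).ge.trans inf_le_left
        refine le_trans (Subgroup.commutator_le.2 fun a ha n hn => ?_) (inf_le_right : Z' ≤ _)
        open scoped Pointwise in
        have h1 : n ∈ (E : Set P) * (Z' : Set P) := by
          rw [← Subgroup.coe_mul_of_left_le_normalizer_right _ _ (hEK.trans hKnZ')]; exact hN1A hn
        obtain ⟨e, he, f, hf, hef⟩ := h1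
        have e1 : ⁅a, e * f⁆ = e * (a * f * a⁻¹ * f⁻¹) * e⁻¹ := by
          rw [commutatorElement_def]
          calc a * (e * f) * a⁻¹ * (e * f)⁻¹ = (a * e) * f * a⁻¹ * f⁻¹ * e⁻¹ := by group
            _ = (e * a) * f * a⁻¹ * f⁻¹ * e⁻¹ := by rw [hEcomm a ha e he]
            _ = e * (a * f * a⁻¹ * f⁻¹) * e⁻¹ := by group
        rw [← hef, e1]
        refine (Subgroup.mem_normalizer_iff.1 (hKnZ' (hEK he)) _).1 (mul_mem ?_ (inv_mem hf))
        exact (Subgroup.mem_normalizer_iff.1 (hKnZ' (hEK ha)) f).1 hf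
    -- the quotient of `N(K)` by `Z(K)`
    set Z := K ⊓ Subgroup.centralizer (K : Set P) with hZ
    have hZE : Z ≤ E := fun x hx => hC (Subgroup.centralizer_le (show (E : Set P) ⊆ K from hEK) hx.2)
    have hZN1 : Z ≤ N1 := hZE.trans hEN
    have hTZ : T ≤ Z := le_inf (hTE.trans hEK) hTK
    set R := Subgroup.normalizer (K : Set P) with hR
    have hKR : K ≤ R := Subgroup.le_normalizer
    have hNN1K : Subgroup.normalizer (N1 : Set P) ≤ K := by
      have h1 := prime_mul_card_le_inf_normalizer hP hN1K'
      rw [← hNN] at h1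
      exact (Subgroup.eq_of_le_of_card_ge inf_le_right h1).ge.trans inf_le_left
    haveI : (Z.subgroupOf R).Normal :=
      Subgroup.normal_subgroupOf_of_le_normalizer (normalizer_le_normalizer_inf_centralizer K)
    set π := QuotientGroup.mk' (Z.subgroupOf R) with hπ
    have hπs : Function.Surjective π := QuotientGroup.mk'_surjective _
    have hπ1 : ∀ x : R, π x = 1 ↔ (x : P) ∈ Z := fun x => QuotientGroup.eq_one_iff x
    have hTne : T ≠ ⊥ := fun e => by
      have h1 : N1 ≤ Subgroup.centralizer (E : Set P) :=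
        Subgroup.le_centralizer_iff.1 (Subgroup.commutator_eq_bot_iff_le_centralizer.1 e)
      exact hEN'.not_ge (h1.trans hC)
    have hcomap : ∀ X : Subgroup R, Z.subgroupOf R ≤ X → (X.map π).comap π = X := fun X hX => by
      rw [Subgroup.comap_map_eq, hπ, QuotientGroup.ker_mk', sup_eq_left.2 hX]
    have hcardmap : ∀ X : Subgroup P, X ≤ R → Z ≤ X →
        Nat.card Z * Nat.card ((X.subgroupOf R).map π) = Nat.card X := by
      intro X hXR hZX
      have h1 := CfsgLib.Cores.card_comap_mk' (Z.subgroupOf R) ((X.subgroupOf R).map π)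
      rw [← hπ, hcomap _ (fun x hx => hZX hx),
        Nat.card_congr (Subgroup.subgroupOfEquivOfLe hXR).toEquiv,
        Nat.card_congr (Subgroup.subgroupOfEquivOfLe (inf_le_left.trans hKR : Z ≤ R)).toEquiv] at h1
      exact h1.symm
    have hQ : IsPGroup p (R ⧸ Z.subgroupOf R) := (hP.to_subgroup R).to_quotient _
    have hZcardpos : 0 < Nat.card Z := Nat.card_pos
    have hQcard : Nat.card Z * Nat.card (R ⧸ Z.subgroupOf R) = Nat.card R := by
      rw [Subgroup.card_eq_card_quotient_mul_card_subgroup (Z.subgroupOf R),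
        Nat.card_congr (Subgroup.subgroupOfEquivOfLe (inf_le_left.trans hKR : Z ≤ R)).toEquiv]
      exact mul_comm _ _
    have hQm : Nat.card (R ⧸ Z.subgroupOf R) ≤ m := by
      have h2 : 2 ≤ Nat.card Z := by
        have : 1 < Nat.card T := by rwa [Subgroup.one_lt_card_iff_ne_bot]
        exact (Subgroup.card_le_of_le hTZ).trans' this
      have h3 : Nat.card R ≤ Nat.card P := Subgroup.card_le_card_group _
      have : 0 < Nat.card (R ⧸ Z.subgroupOf R) := Nat.card_pos
      nlinarith
    set Et := (N1.subgroupOf R).map π with hEt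
    have hEtab : IsMulCommutative Et := by
      have hN1comm : ∀ a ∈ N1, ∀ b ∈ N1, ∀ (ha : a ∈ R) (hb : b ∈ R), π ⟨a, ha⟩ * π ⟨b, hb⟩ = π ⟨b, hb⟩ * π ⟨a, ha⟩ := by
        intro a ha b hb haR hbR
        have base : ∀ u v : P, ⁅u, v⁆ ∈ Z → ∀ (hu : u ∈ R) (hv : v ∈ R), Commute (π ⟨u, hu⟩) (π ⟨v, hv⟩) := by
          intro u v h hu hv
          show π _ * π _ = π _ * π _
          rw [← commutatorElement_eq_one_iff_mul_comm, ← map_commutatorElement]
          exact (hπ1 _).2 h
        have mR : ∀ x ∈ N1, x ∈ R := fun x hx => hKR (hN1K hx)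
        obtain ⟨e1, he1, f1, hf1, rfl⟩ := hprod a ha
        obtain ⟨e2, he2, f2, hf2, rfl⟩ := hprod b hb
        have c1 := base e1 e2 (by rw [commutatorElement_eq_one_iff_mul_comm.2 (hEcomm e1 he1 e2 he2)]; exact one_mem _)
          (mR _ (hEN he1)) (mR _ (hEN he2))
        have c2 := base e1 f2 (hTZ (Subgroup.commutator_mem_commutator he1 (hE'N hf2)))
          (mR _ (hEN he1)) (mR _ (hE'N hf2))
        have c3 := (base e2 f1 (hTZ (Subgroup.commutator_mem_commutator he2 (hE'N hf1)))
          (mR _ (hEN he2)) (mR _ (hE'N hf1))).symm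
        have c4 := base f1 f2 (by rw [commutatorElement_eq_one_iff_mul_comm.2 (hE'ab f1 hf1 f2 hf2)]; exact one_mem _)
          (mR _ (hE'N hf1)) (mR _ (hE'N hf2))
        have h := (c1.mul_right c2).mul_left (c3.mul_right c4)
        rw [← map_mul, ← map_mul] at h
        exact h.eq
      refine ⟨⟨fun a b => Subtype.ext ?_⟩⟩
      obtain ⟨⟨x, hxR⟩, hx, hxa⟩ := a.2
      obtain ⟨⟨z, hzR⟩, hz, hzb⟩ := b.2
      show (a : R ⧸ Z.subgroupOf R) * b = (b : R ⧸ Z.subgroupOf R) * a
      rw [← hxa, ← hzb]
      exact hN1comm x hx z hz hxR hzR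
    have hEtC : Subgroup.centralizer (Et : Set (R ⧸ Z.subgroupOf R)) ≤ Et := by
      intro q hq
      obtain ⟨⟨x, hxR⟩, rfl⟩ := hπs q
      refine ⟨⟨x, hxR⟩, ?_, rfl⟩
      refine CfsgLib.CoprimeAction.mem_normalizer_of_conj_mem fun e he => ?_
      have h1 := Subgroup.mem_centralizer_iff.1 hq (π ⟨e, hKR (hEK he)⟩) ⟨⟨e, hKR (hEK he)⟩, hEN he, rfl⟩
      have h2 : π ⁅(⟨x, hxR⟩ : R), ⟨e, hKR (hEK he)⟩⁆ = 1 := by
        rw [map_commutatorElement, commutatorElement_eq_one_iff_mul_comm]; exact h1.symm
      have h3 := hZE ((hπ1 _).1 h2)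
      have h4 := mul_mem h3 he
      show x * e * x⁻¹ ∈ E
      have e5 : x * e * x⁻¹ = (x * e * x⁻¹ * e⁻¹) * e := by group
      rw [e5]
      exact h4
    have hEtN : Nat.card (Subgroup.normalizer (Et : Set (R ⧸ Z.subgroupOf R))) = p * Nat.card Et := by
      have e : (Subgroup.normalizer (Et : Set (R ⧸ Z.subgroupOf R))).comap π =
          (Subgroup.normalizer (N1 : Set P)).subgroupOf R := by
        rw [Subgroup.comap_normalizer_eq_of_surjective _ hπs, hcomap _ fun x hx => hZN1 hx]
        ext x
        simp only [Subgroup.mem_subgroupOf]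
        constructor
        · intro hx
          refine CfsgLib.CoprimeAction.mem_normalizer_of_conj_mem fun a ha => ?_
          exact (Subgroup.mem_normalizer_iff.1 hx ⟨a, hKR (hN1K ha)⟩).1 ha
        · intro hx
          exact Subgroup.mem_normalizer_iff.2 fun a => Subgroup.mem_normalizer_iff.1 hx (a : P)
      have h1 := CfsgLib.Cores.card_comap_mk' (Z.subgroupOf R) (Subgroup.normalizer (Et : Set (R ⧸ Z.subgroupOf R)))
      rw [← hπ, e, Nat.card_congr (Subgroup.subgroupOfEquivOfLe (hNN1K.trans hKR)).toEquiv,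
        Nat.card_congr (Subgroup.subgroupOfEquivOfLe (inf_le_left.trans hKR : Z ≤ R)).toEquiv, hNN,
        ← hcardmap N1 (hN1K.trans hKR) hZN1] at h1
      exact Nat.eq_of_mul_eq_mul_left hZcardpos (by rw [← h1, hEt]; ring)
    have hN1Kc : p * Nat.card N1 ≤ Nat.card K := CfsgLib.PGroups.prime_mul_card_le hP hN1K'
    have hKRc : p * Nat.card K ≤ Nat.card R := CfsgLib.PGroups.prime_mul_card_le hP hKlt
    have hidx' : p ^ 2 * Nat.card Et ≤ Nat.card (R ⧸ Z.subgroupOf R) := by
      refine Nat.le_of_mul_le_mul_left ?_ hZcardpos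
      rw [hQcard, mul_left_comm, hcardmap N1 (hN1K.trans hKR) hZN1, pow_two, mul_assoc]
      exact (Nat.mul_le_mul_left p hN1Kc).trans hKRc
    set Kt := (K.subgroupOf R).map π with hKt
    have hKtle : Et ≤ Kt := Subgroup.map_mono fun x hx => hN1K hx
    have hKtop' : Kt ≠ ⊤ := fun e => hKlt.not_ge fun x hx => by
      have h1 : (⟨x, hx⟩ : R) ∈ Kt.comap π := by rw [e]; trivial
      rw [hcomap _ fun z hz => hz.1] at h1
      exact h1
    obtain ⟨hKtN, hKtcl⟩ := ihm (R ⧸ Z.subgroupOf R) hQm hQ Et hEtab hEtC hEtN hidx' Kt hKtle hKtop'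
    haveI : Kt.Normal := by
      refine Subgroup.Normal.map ?_ π hπs
      exact Subgroup.normal_subgroupOf_of_le_normalizer le_rfl
    rw [Subgroup.normalizer_eq_top, Subgroup.card_top] at hKtN
    refine ⟨⟨?_, fun i hi => ?_⟩, hTK⟩
    · rw [← hQcard, hKtN, ← hcardmap K hKR inf_le_left]; ring
    · obtain ⟨i, rfl⟩ : ∃ i', i = i' + 1 := Nat.exists_eq_succ_of_ne_zero fun h0 => hEK'.ne (by
        refine Subgroup.eq_of_le_of_card_ge hEK ?_
        rw [hi, h0, pow_zero, one_mul])
      have hcl := hKtcl i (by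
        refine Nat.eq_of_mul_eq_mul_left hZcardpos ?_
        rw [hcardmap K hKR inf_le_left, mul_left_comm, hcardmap N1 (hN1K.trans hKR) hZN1, hNE, hi, pow_succ]
        ring)
      let f : K →* Kt :=
        (π.subgroupMap (K.subgroupOf R)).comp (Subgroup.subgroupOfEquivOfLe hKR).symm.toMonoidHom
      have hfs : Function.Surjective f :=
        (π.subgroupMap_surjective _).comp (MulEquiv.surjective _)
      haveI : Nontrivial K := (Subgroup.nontrivial_iff_ne_bot K).2 fun e => hTne (le_bot_iff.1 (e ▸ hTE.trans hEK))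
      rw [nilpotencyClass_eq_succ_of_ker_eq_center f hfs ?_, hcl]
      ext x
      rw [MonoidHom.mem_ker, Subgroup.mem_center_iff, ← Subtype.coe_inj, Subgroup.coe_one]
      refine (hπ1 _).trans ⟨fun hx a => Subtype.ext (Subgroup.mem_centralizer_iff.1 hx.2 a a.2), fun hx =>
        ⟨x.2, Subgroup.mem_centralizer_iff.2 fun a ha => congrArg Subtype.val (hx ⟨a, ha⟩)⟩⟩
  intro K hEK hKtop
  exact (main (Nat.card K) K rfl hEK hKtop).1

end CfsgLib.MetacyclicP
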